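import Groth.Agent.Lib.SiteCoh.Kill

/-!
# Vanishing of cohomology from surjectivity on sections
-/

universe u

open CategoryTheory Limits Opposite Abelian

namespace Groth.Agent.Lib.SiteCoh.Acyclic

open Basic Kill

variable {C : Type u} [SmallCategory C] {J : GrothendieckTopology C}

/-- In degree `1`: vanishing from surjectivity of sections. -/
lemma ext_one_eq_zero {S : ShortComplex (Sheaf J AddCommGrpCat.{u})} (hS : S.ShortExact) {U : C}
    (h : Function.Surjective (S.g.hom.app (op U))) (x : Ext (CohCx.freeSheaf J U) S.X₁ 1)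
    (hx : x.comp (Ext.mk₀ S.f) (add_zero 1) = 0) : x = 0 := by
  obtain ⟨y, rfl⟩ := Ext.covariant_sequence_exact₁ (n₀ := 0) _ hS x hx (zero_add 1)
  obtain ⟨t, ht⟩ := h (ext0Equiv _ U y)
  obtain ⟨t', rfl⟩ := (ext0Equiv _ U).surjective t
  have hy : t'.comp (Ext.mk₀ S.g) (add_zero 0) = y := by
    apply (ext0Equiv _ U).injective
    rw [ext0Equiv_comp_mk₀]
    exact ht
  rw [← hy, Ext.comp_assoc (a₁₂ := 0) (a₂₃ := 1) t' _ _ (add_zero 0) (zero_add 1) (by omega),
    ShortComplex.ShortExact.comp_extClass, Ext.comp_zero]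

/-- Surjectivity of sections from vanishing of `H¹`. -/
lemma surjective_app_of_subsingleton {S : ShortComplex (Sheaf J AddCommGrpCat.{u})}
    (hS : S.ShortExact) {U : C} (h : Subsingleton (CohSite.HU S.X₁ 1 U)) :
    Function.Surjective (S.g.hom.app (op U)) := by
  intro s
  obtain ⟨t, ht⟩ := Ext.covariant_sequence_exact₃ (CohCx.freeSheaf J U) hS
    ((ext0Equiv _ U).symm s) (zero_add 1) ((subsingleton_hu_iff S.X₁ 1 U).1 h _)
  refine ⟨ext0Equiv _ U t, ?_⟩
  rw [← ext0Equiv_comp_mk₀, ht, AddEquiv.apply_symm_apply]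

/-- If every epimorphism of abelian sheaves is surjective on `U`, then `U` has no cohomology. -/
lemma subsingleton_hu_of_surjective {U : C}
    (h : ∀ {F G : Sheaf J AddCommGrpCat.{u}} (φ : F ⟶ G), Epi φ →
      Function.Surjective (φ.hom.app (op U))) (p : ℕ) (F : Sheaf J AddCommGrpCat.{u}) :
    Subsingleton (CohSite.HU F (p + 1) U) := by
  induction p generalizing F with
  | zero =>
    exact (subsingleton_hu_iff F _ U).2 fun x =>
      ext_one_eq_zero (embSES_shortExact F) (h _ (embSES_shortExact F).epi_g) x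
        (Ext.eq_zero_of_injective _)
  | succ n ih =>
    refine (subsingleton_hu_iff F _ U).2 fun x => ?_
    obtain ⟨y, rfl⟩ := exists_eq_comp_extClass F x
    rw [(subsingleton_hu_iff (embSES F).X₃ _ U).1 (ih _) y, Ext.zero_comp]
    rfl

end Groth.Agent.Lib.SiteCoh.Acyclic
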