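import Groth.Agent.Lib.SiteCoh.HomAcyclic
import Mathlib.AlgebraicTopology.CechNerve
import Mathlib.AlgebraicTopology.AlternatingFaceMapComplex
import Mathlib.CategoryTheory.Limits.Preserves.Basic
import Mathlib.CategoryTheory.Adjunction.Additive
import Mathlib.Algebra.Homology.Additive

/-!
# Functoriality of Cech nerves and transfer of exactness of `Hom`
-/

universe w v v' u u'

open CategoryTheory Limits Opposite Simplicial

namespace Groth.Agent.Lib.SiteCoh.NerveFunctor

section

variable {E : Type u} [Category.{v} E] {E' : Type u'} [Category.{v'} E'] [HasLimits E]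
  (L : E ⥤ E') {J : Type} [∀ {B : E'} {objs : J → E'} (a : ∀ j, objs j ⟶ B), HasWidePullback B objs a]

/-- The image of the wide cospan. -/
noncomputable def cospanIso (B : E) (objs : J → E) (a : ∀ j, objs j ⟶ B) :
    WidePullbackShape.wideCospan B objs a ⋙ L ≅
      WidePullbackShape.wideCospan (L.obj B) (fun j => L.obj (objs j)) (fun j => L.map (a j)) :=
  WidePullbackShape.diagramIsoWideCospan (WidePullbackShape.wideCospan B objs a ⋙ L)

variable {B : E} {objs : J → E} (a : ∀ j, objs j ⟶ B)
  [PreservesLimit (WidePullbackShape.wideCospan B objs a) L]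

/-- The comparison isomorphism for wide pullbacks. -/
noncomputable def widePullbackIso :
    L.obj (widePullback B objs a) ≅ widePullback (L.obj B) _ (fun j => L.map (a j)) :=
  preservesLimitIso L (WidePullbackShape.wideCospan B objs a) ≪≫
    HasLimit.isoOfNatIso (cospanIso L B objs a)

lemma widePullbackIso_hom_π (j : J) :
    (widePullbackIso L a).hom ≫ WidePullback.π (fun j => L.map (a j)) j =
      L.map (WidePullback.π a j) := by
  refine (Category.assoc _ _ _).trans ((congrArg _ (HasLimit.isoOfNatIso_hom_π (cospanIso L B objs a) (some j))).trans ?_)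
  refine (preservesLimitIso_hom_π_assoc _ _ _ _).trans ?_
  exact Category.comp_id _

lemma widePullbackIso_hom_base :
    (widePullbackIso L a).hom ≫ WidePullback.base (fun j => L.map (a j)) =
      L.map (WidePullback.base a) := by
  refine (Category.assoc _ _ _).trans ((congrArg _ (HasLimit.isoOfNatIso_hom_π (cospanIso L B objs a) none)).trans ?_)
  refine (preservesLimitIso_hom_π_assoc _ _ _ _).trans ?_
  exact Category.comp_id _

end

section

variable {E : Type u} [Category.{v} E] {E' : Type u'} [Category.{v'} E'] [HasLimits E] [HasLimits E']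
  (L : E ⥤ E') [∀ n : ℕ, PreservesLimitsOfShape (WidePullbackShape (Fin n)) L] {K' K : E} (f : K' ⟶ K)

/-- A functor preserving wide pullbacks commutes with Cech nerves. -/
noncomputable def cechNerveIso :
    (Arrow.mk f).cechNerve ⋙ L ≅ (Arrow.mk (L.map f)).cechNerve :=
  NatIso.ofComponents (fun Δ => widePullbackIso L (fun _ : Fin (Δ.unop.len + 1) => f)) (by
    intro Δ Δ' g
    refine WidePullback.hom_ext _ _ _ (fun j => ?_) ?_
    · refine (Category.assoc _ _ _).trans (Eq.trans ?_ (Category.assoc _ _ _).symm)
      refine (congrArg _ (widePullbackIso_hom_π L _ j)).trans ?_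
      refine Eq.trans ?_ (congrArg _ (show (Arrow.mk (L.map f)).cechNerve.map g ≫ _ =
        WidePullback.π (fun _ => L.map f) (g.unop.toOrderHom j) from WidePullback.lift_π _ _ _ _ j)).symm
      refine Eq.trans ?_ (widePullbackIso_hom_π L _ _).symm
      exact (L.map_comp _ _).symm.trans (congrArg L.map (WidePullback.lift_π _ _ _ _ j))
    · refine (Category.assoc _ _ _).trans (Eq.trans ?_ (Category.assoc _ _ _).symm)
      refine (congrArg _ (widePullbackIso_hom_base L _)).trans ?_
      refine Eq.trans ?_ (congrArg _ (show (Arrow.mk (L.map f)).cechNerve.map g ≫ _ =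
        WidePullback.base (fun _ => L.map f) from WidePullback.lift_base _ _ _ _)).symm
      refine Eq.trans ?_ (widePullbackIso_hom_base L _).symm
      exact (L.map_comp _ _).symm.trans (congrArg L.map (WidePullback.lift_base _ _ _ _)))

end

section

open HomAcyclic

variable {A : Type u} [Category.{v} A] [Abelian A] {A' : Type u'} [Category.{v'} A'] [Abelian A']

lemma exactHom_of_iso {P P' : ChainComplex A ℕ} (e : P ≅ P') {F : A} {q : ℕ} (h : ExactHom P F q) :
    ExactHom P' F q := by
  intro x hx
  obtain ⟨y, hy⟩ := h (e.hom.f (q + 1) ≫ x) (by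
    rw [← e.hom.comm_assoc, hx, comp_zero])
  refine ⟨e.inv.f q ≫ y, ?_⟩
  rw [← e.inv.comm_assoc, hy, ← Category.assoc, ← HomologicalComplex.comp_f, e.inv_hom_id,
    HomologicalComplex.id_f, Category.id_comp]

lemma exactHom_of_adjunction {L : A ⥤ A'} {R : A' ⥤ A} [L.Additive] [R.Additive] (adj : L ⊣ R) {P : ChainComplex A ℕ}
    {F : A'} {q : ℕ} (h : ExactHom ((L.mapHomologicalComplex _).obj P) F q) :
    ExactHom P (R.obj F) q := by
  intro x hx
  obtain ⟨y, hy⟩ := h ((adj.homEquiv _ _).symm x) (by
    refine (adj.homEquiv_naturality_left_symm (P.d (q + 2) (q + 1)) x).symm.trans ?_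
    rw [hx]
    exact map_zero (adj.homAddEquiv _ F).symm)
  refine ⟨adj.homEquiv _ _ y, ?_⟩
  refine (adj.homEquiv_naturality_left _ y).symm.trans ?_
  exact (congrArg (adj.homEquiv _ _) hy).trans (Equiv.apply_symm_apply _ _)

end

end Groth.Agent.Lib.SiteCoh.NerveFunctor
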