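import Groth.Agent.Lib.SiteCoh.TotAcyclic
import Groth.Agent.Lib.SiteCoh.NerveFunctor
import Groth.Agent.Lib.SiteCoh.Acyclic
import Mathlib.CategoryTheory.Sites.Pullback

/-!
# Direct images along morphisms of sites preserve total acyclicity
-/

universe u

open CategoryTheory Limits Opposite Abelian

namespace Groth.Agent.Lib.SiteCoh.Pushforward

open HomAcyclic NerveCx FreeSheaf NerveFunctor

variable {C D : Type u} [SmallCategory C] [SmallCategory D]
  (J : GrothendieckTopology C) (K : GrothendieckTopology D) (u : D ⥤ C) [u.IsContinuous K J]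

/-- The inverse image of sheaves of sets. -/
noncomputable abbrev pullSet : Sheaf K (Type u) ⥤ Sheaf J (Type u) :=
  u.sheafPullback (Type u) K J

/-- The inverse image of abelian sheaves. -/
noncomputable abbrev pullAb : Sheaf K AddCommGrpCat.{u} ⥤ Sheaf J AddCommGrpCat.{u} :=
  u.sheafPullback AddCommGrpCat.{u} K J

/-- Direct image commutes with forgetting the group structure. -/
noncomputable def pushForgetIso :
    sheafCompose J (forget AddCommGrpCat.{u}) ⋙ u.sheafPushforwardContinuous (Type u) K J ≅
      CohSite.push J K u ⋙ sheafCompose K (forget AddCommGrpCat.{u}) :=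
  Iso.refl _

/-- Inverse image commutes with free abelian sheaves. -/
noncomputable def freePullIso : freeSh K ⋙ pullAb J K u ≅ pullSet J K u ⋙ freeSh J :=
  Adjunction.leftAdjointUniq
    ((freeShAdj K).comp (u.sheafAdjunctionContinuous AddCommGrpCat.{u} K J))
    (((u.sheafAdjunctionContinuous (Type u) K J).comp (freeShAdj J)).ofNatIsoRight
      (pushForgetIso J K u))

instance pullAb_additive : (pullAb J K u).Additive :=
  (u.sheafAdjunctionContinuous AddCommGrpCat.{u} K J).left_adjoint_additive

variable [PreservesFiniteLimits (u.sheafPullback (Type u) K J)]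

/-- The inverse image of the free nerve. -/
noncomputable def nervePullIso {K' K₀ : Sheaf K (Type u)} (f : K' ⟶ K₀) :
    ((pullAb J K u).mapHomologicalComplex _).obj (nerveP f) ≅ nerveP ((pullSet J K u).map f) :=
  eqToIso (Functor.congr_obj
      (AlgebraicTopology.map_alternatingFaceMapComplex (pullAb J K u)) _) ≪≫
    (AlgebraicTopology.alternatingFaceMapComplex (Sheaf J AddCommGrpCat.{u})).mapIso
      (Functor.associator _ _ _ ≪≫ Functor.isoWhiskerLeft _ (freePullIso J K u) ≪≫
        (Functor.associator _ _ _).symm ≪≫
          Functor.isoWhiskerRight (cechNerveIso (pullSet J K u) f) (freeSh J))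

variable {J K u}

/-- Direct image preserves acyclicity of Cech complexes. -/
theorem exactHom_push {F : Sheaf J AddCommGrpCat.{u}} (hF : CohCx.IsTotallyAcyclic F)
    {K' K₀ : Sheaf K (Type u)} (f : K' ⟶ K₀) [Epi f] (q : ℕ) :
    ExactHom (nerveP f) ((CohSite.push J K u).obj F) q := by
  have : (pullSet J K u).IsLeftAdjoint :=
    (u.sheafAdjunctionContinuous (Type u) K J).isLeftAdjoint
  refine exactHom_of_adjunction (u.sheafAdjunctionContinuous AddCommGrpCat.{u} K J) ?_
  exact exactHom_of_iso (nervePullIso J K u f).symm
    (TotAcyclic.exactHom_of_isTotallyAcyclic _ q hF)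

/-- Direct image along a morphism of sites preserves total acyclicity. -/
theorem isTotallyAcyclic_push {F : Sheaf J AddCommGrpCat.{u}} (hF : CohCx.IsTotallyAcyclic F) :
    CohCx.IsTotallyAcyclic ((CohSite.push J K u).obj F) :=
  TotAcyclic.isTotallyAcyclic_of_exactHom fun f _ q => exactHom_push hF f q

/-- The direct image of an injective sheaf has no cohomology on objects. -/
theorem subsingleton_hu_push_injective (I : Sheaf J AddCommGrpCat.{u}) [Injective I] (V : D)
    (q : ℕ) : Subsingleton (CohSite.HU ((CohSite.push J K u).obj I) (q + 1) V) :=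
  subsingleton_hu_of_isTotallyAcyclic
    (isTotallyAcyclic_push (TotAcyclic.isTotallyAcyclic_of_injective I)) V q

open Kill Basic

omit [PreservesFiniteLimits (u.sheafPullback (Type u) K J)] in
/-- Direct image of a sectionwise surjective short exact sequence is short exact. -/
lemma shortExact_map_push {S : ShortComplex (Sheaf J AddCommGrpCat.{u})} (hS : S.ShortExact)
    (h : ∀ U, Function.Surjective (S.g.hom.app (op U))) :
    (S.map (CohSite.push J K u)).ShortExact := by
  have := (u.sheafAdjunctionContinuous AddCommGrpCat.{u} K J).isRightAdjoint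
  have := hS.mono_f
  have : Mono (S.map (CohSite.push J K u)).f :=
    inferInstanceAs (Mono ((CohSite.push J K u).map S.f))
  have : Epi (S.map (CohSite.push J K u)).g := by
    refine (Sheaf.isLocallySurjective_iff_epi' _ (S.map (CohSite.push J K u)).g).1 ?_
    exact Presheaf.isLocallySurjective_of_surjective K (S.map (CohSite.push J K u)).g.hom
      fun V => h (u.obj V.unop)
  exact ShortComplex.ShortExact.mk' (ShortComplex.exact_of_f_is_kernel _
    (KernelFork.mapIsLimit _ hS.fIsKernel (CohSite.push J K u))) inferInstance inferInstance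

/-- Direct image preserves acyclicity on objects. -/
theorem subsingleton_hu_push (q : ℕ) : ∀ (F : Sheaf J AddCommGrpCat.{u}),
    (∀ (U : C) (q : ℕ), Subsingleton (CohSite.HU F (q + 1) U)) → ∀ V : D,
    Subsingleton (CohSite.HU ((CohSite.push J K u).obj F) (q + 1) V) := by
  induction q with
  | zero =>
    intro F hF V
    have hs := fun U => Acyclic.surjective_app_of_subsingleton (embSES_shortExact F) (hF U 0)
    refine (subsingleton_hu_iff _ _ V).2 fun x => ?_
    exact Acyclic.ext_one_eq_zero (shortExact_map_push (embSES_shortExact F) hs) (hs _) x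
      (((subsingleton_hu_iff _ _ V).1 (subsingleton_hu_push_injective (Injective.under F) V 0)) _)
  | succ n ih =>
    intro F hF V
    have hs := fun U => Acyclic.surjective_app_of_subsingleton (embSES_shortExact F) (hF U 0)
    have hQ : ∀ (U : C) (q : ℕ), Subsingleton (CohSite.HU (embSES F).X₃ (q + 1) U) := fun U q => by
      refine (subsingleton_hu_iff _ _ U).2 fun x => ?_
      obtain ⟨t, rfl⟩ := Ext.covariant_sequence_exact₃ _ (embSES_shortExact F) x rfl
        (((subsingleton_hu_iff _ _ U).1 (hF U (q + 1))) _)
      have : Injective (embSES F).X₂ := inferInstanceAs (Injective (Injective.under F))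
      rw [Ext.eq_zero_of_injective t, Ext.zero_comp]
    refine (subsingleton_hu_iff _ _ V).2 fun x => ?_
    have hS := shortExact_map_push (u := u) (K := K) (embSES_shortExact F) hs
    obtain ⟨y, rfl⟩ := Ext.covariant_sequence_exact₁ _ hS x
      (((subsingleton_hu_iff _ _ V).1 (subsingleton_hu_push_injective (Injective.under F) V (n + 1))) _) rfl
    have : y = 0 := (subsingleton_hu_iff _ _ V).1 (ih _ hQ V) y
    rw [this, Ext.zero_comp]
    rfl

end Groth.Agent.Lib.SiteCoh.Pushforward
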