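import Groth.Agent.Lib.SiteCoh.Basic
import Mathlib.Algebra.Category.Grp.EpiMono
import Mathlib.CategoryTheory.ConcreteCategory.EpiMono
import Mathlib.CategoryTheory.Abelian.EpiWithInjectiveKernel

/-!
# Epimorphisms of abelian sheaves and killing cohomology classes on covers
-/

universe u

open CategoryTheory Limits Opposite Abelian

namespace Groth.Agent.Lib.SiteCoh.Kill

open Basic

variable {C : Type u} [SmallCategory C] {J : GrothendieckTopology C}

/-- Sections lift locally along an epimorphism of abelian sheaves. -/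
lemma exists_local_lift {F G : Sheaf J AddCommGrpCat.{u}} (φ : F ⟶ G) [Epi φ] {U : C}
    (s : G.obj.obj (op U)) :
    Presheaf.imageSieve φ.hom s ∈ J U := by
  have : Sheaf.IsLocallySurjective φ := (Sheaf.isLocallySurjective_iff_epi' _ φ).2 inferInstance
  exact Presheaf.imageSieve_mem J φ.hom (U := op U) s

/-- The short exact sequence embedding a sheaf into an injective one. -/
noncomputable def embSES (F : Sheaf J AddCommGrpCat.{u}) :
    ShortComplex (Sheaf J AddCommGrpCat.{u}) :=
  ShortComplex.mk (Injective.ι F) (cokernel.π (Injective.ι F)) (cokernel.condition _)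

lemma embSES_shortExact (F : Sheaf J AddCommGrpCat.{u}) : (embSES F).ShortExact :=
  have : Mono (embSES F).f := Injective.ι_mono F
  have : Epi (embSES F).g := inferInstanceAs (Epi (cokernel.π (Injective.ι F)))
  ShortComplex.ShortExact.mk' (ShortComplex.exact_of_g_is_cokernel _
    (cokernelIsCokernel (Injective.ι F))) inferInstance inferInstance

instance embSES_injective (F : Sheaf J AddCommGrpCat.{u}) : Injective (embSES F).X₂ :=
  inferInstanceAs (Injective (Injective.under F))

/-- Every class of positive degree is a boundary out of the embedding in an injective. -/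
lemma exists_eq_comp_extClass {X : Sheaf J AddCommGrpCat.{u}} (F : Sheaf J AddCommGrpCat.{u})
    {n : ℕ} (x : Ext X F (n + 1)) :
    ∃ y : Ext X (embSES F).X₃ n, y.comp (embSES_shortExact F).extClass rfl = x :=
  Ext.covariant_sequence_exact₁ X (embSES_shortExact F) x (Ext.eq_zero_of_injective _) rfl

/-- A boundary dies where the class it comes from lifts. -/
lemma mk₀_comp_boundary {X Y : Sheaf J AddCommGrpCat.{u}}
    {S : ShortComplex (Sheaf J AddCommGrpCat.{u})} (hS : S.ShortExact) (k : Y ⟶ X)
    (y : Ext X S.X₃ 0) (t : Ext Y S.X₂ 0)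
    (h : (Ext.mk₀ k).comp y (zero_add 0) = t.comp (Ext.mk₀ S.g) (add_zero 0)) :
    (Ext.mk₀ k).comp (y.comp hS.extClass (zero_add 1)) (zero_add 1) = 0 := by
  rw [← Ext.comp_assoc (Ext.mk₀ k) y hS.extClass (zero_add 0) (zero_add 1) (by omega), h,
    Ext.comp_assoc t (Ext.mk₀ S.g) hS.extClass (add_zero 0) (zero_add 1) (by omega),
    ShortComplex.ShortExact.comp_extClass, Ext.comp_zero]

/-- A boundary dies where the class it comes from dies. -/
lemma mk₀_comp_boundary_succ {X Y : Sheaf J AddCommGrpCat.{u}}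
    {S : ShortComplex (Sheaf J AddCommGrpCat.{u})} (hS : S.ShortExact) (k : Y ⟶ X) {n : ℕ}
    (y : Ext X S.X₃ n) (h : (Ext.mk₀ k).comp y (zero_add n) = 0) :
    (Ext.mk₀ k).comp (y.comp hS.extClass rfl) (zero_add (n + 1)) = 0 := by
  rw [← Ext.comp_assoc (Ext.mk₀ k) y hS.extClass (zero_add n) rfl (by omega), h, Ext.zero_comp]

/-- Positive degree classes die locally. -/
lemma exists_cover_kill (n : ℕ) (F : Sheaf J AddCommGrpCat.{u}) (U : C)
    (x : Ext (CohCx.freeSheaf J U) F (n + 1)) :
    ∃ S ∈ J U, ∀ ⦃V : C⦄ (f : V ⟶ U), S.arrows f →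
      (Ext.mk₀ (CohCx.freeSheafMap J f)).comp x (zero_add (n + 1)) = 0 := by
  induction n generalizing F U with
  | zero =>
    obtain ⟨y, rfl⟩ := exists_eq_comp_extClass F x
    have : Epi (embSES F).g := (embSES_shortExact F).epi_g
    refine ⟨_, exists_local_lift (embSES F).g (ext0Equiv _ U y), ?_⟩
    rintro V f ⟨t, ht⟩
    obtain ⟨t', rfl⟩ := (ext0Equiv _ V).surjective t
    refine mk₀_comp_boundary (embSES_shortExact F) (CohCx.freeSheafMap J f) y t' ?_
    apply (ext0Equiv _ V).injective
    rw [ext0Equiv_mk₀_comp, ext0Equiv_comp_mk₀]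
    exact ht.symm
  | succ n ih =>
    obtain ⟨y, rfl⟩ := exists_eq_comp_extClass F x
    obtain ⟨S, hS, h⟩ := ih _ U y
    exact ⟨S, hS, fun V f hf => mk₀_comp_boundary_succ (embSES_shortExact F) _ y (h f hf)⟩

end Groth.Agent.Lib.SiteCoh.Kill
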