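import Mathlib.CategoryTheory.Sites.Limits
import Mathlib.CategoryTheory.Sites.LocallySurjective
import Mathlib.CategoryTheory.Limits.Types.Pullbacks
import Mathlib.CategoryTheory.Limits.FunctorCategory.Basic
import Mathlib.CategoryTheory.Limits.Preserves.Shapes.Pullbacks

/-!
# Pullbacks of sheaves of sets, on sections
-/

universe w v u

open CategoryTheory Limits Opposite

namespace Groth.Agent.Lib.SiteCoh.SheafTypes

variable {C : Type u} [Category.{v} C] {J : GrothendieckTopology C}
  {F G H : Sheaf J (Type w)} (f : F ⟶ G) (g : H ⟶ G)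

lemma isPullback_app (U : C) :
    IsPullback ((pullback.fst f g).hom.app (op U)) ((pullback.snd f g).hom.app (op U))
      (f.hom.app (op U)) (g.hom.app (op U)) :=
  (IsPullback.of_hasPullback f g).map
    (sheafToPresheaf J (Type w) ⋙ (evaluation Cᵒᵖ (Type w)).obj (op U))

lemma exists_pullback_section {U : C} (a : F.obj.obj (op U)) (b : H.obj.obj (op U))
    (h : f.hom.app (op U) a = g.hom.app (op U) b) :
    ∃ c : (pullback f g).obj.obj (op U), (pullback.fst f g).hom.app (op U) c = a ∧
      (pullback.snd f g).hom.app (op U) c = b := by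
  obtain ⟨c, hc, hc'⟩ := Types.exists_of_isPullback (isPullback_app f g U) a b h
  exact ⟨c, hc, hc'⟩

lemma isLocallySurjective_snd [Sheaf.IsLocallySurjective f] :
    Sheaf.IsLocallySurjective (pullback.snd f g) := by
  refine ⟨fun {U} s => J.superset_covering ?_
    (Presheaf.imageSieve_mem J f.hom (U := op U) (g.hom.app (op U) s))⟩
  rintro V i ⟨t, ht⟩
  obtain ⟨c, -, hc⟩ := exists_pullback_section f g t (H.obj.map i.op s)
    (ht.trans (NatTrans.naturality_apply g.hom i.op s).symm)
  exact ⟨c, hc⟩

end Groth.Agent.Lib.SiteCoh.SheafTypes
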