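import Groth.Agent.Lib.SiteCoh.NerveCx
import Groth.Agent.Lib.SiteCoh.SheafTypes
import Groth.Agent.Lib.SiteCoh.Kill

/-!
# Totally acyclic sheaves and Cech nerves of epimorphisms
-/

universe u

open CategoryTheory Limits Opposite Simplicial Abelian

namespace Groth.Agent.Lib.SiteCoh.TotAcyclic

open HomAcyclic NerveCx FreeSheaf Kill

variable {C : Type u} [SmallCategory C] {J : GrothendieckTopology C}

/-- The free sheaves of the nerve. -/
noncomputable abbrev level {K' K : Sheaf J (Type u)} (f : K' ⟶ K) (n : ℕ) : Sheaf J (Type u) :=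
  (Arrow.mk f).cechNerve _⦋n⦌

lemma isTotallyAcyclic_X₃ {S : ShortComplex (Sheaf J AddCommGrpCat.{u})} (hS : S.ShortExact)
    (h1 : CohCx.IsTotallyAcyclic S.X₁) (h2 : CohCx.IsTotallyAcyclic S.X₂) :
    CohCx.IsTotallyAcyclic S.X₃ := by
  intro K p
  refine subsingleton_of_forall_eq 0 fun x => ?_
  have hx : x.comp hS.extClass rfl = 0 := (h1 K (p + 1)).elim _ _
  obtain ⟨y, hy⟩ := Ext.covariant_sequence_exact₃ _ hS x rfl hx
  have h0 : y = 0 := (h2 K p).elim y 0
  rw [← hy, h0, Ext.zero_comp]
  try rfl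

lemma isTotallyAcyclic_of_injective (I : Sheaf J AddCommGrpCat.{u}) [Injective I] :
    CohCx.IsTotallyAcyclic I := fun _ _ =>
  subsingleton_of_forall_eq 0 fun x => Ext.eq_zero_of_injective x

/-- A totally acyclic sheaf has acyclic Cech complexes for epimorphisms. -/
theorem exactHom_of_isTotallyAcyclic {K' K : Sheaf J (Type u)} (f : K' ⟶ K) [Epi f] (q : ℕ) :
    ∀ {F : Sheaf J AddCommGrpCat.{u}}, CohCx.IsTotallyAcyclic F → ExactHom (nerveP f) F q := by
  induction q with
  | zero =>
    intro F hF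
    exact exactHom_X₁_zero (embSES_shortExact F) (isResolution f)
      (fun x => surjective_comp (embSES_shortExact F) (hF K 0) x)
      (exactHom_of_injective _ _ _ ((isResolution f).exactAt 0))
  | succ q ih =>
    intro F hF
    exact exactHom_X₁_succ (embSES_shortExact F) q
      (fun x => surjective_comp (embSES_shortExact F) (hF (level f q) 0) x)
      (exactHom_of_injective _ _ _ ((isResolution f).exactAt (q + 1)))
      (ih (isTotallyAcyclic_X₃ (embSES_shortExact F) hF (isTotallyAcyclic_of_injective _)))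

lemma nerveε_eq {K' K : Sheaf J (Type u)} (f : K' ⟶ K) :
    nerveε f = (freeSh J).map (WidePullback.π (fun _ : Fin 1 => (Arrow.mk f).hom) 0) ≫
      (freeSh J).map f := by
  rw [← Functor.map_comp]
  refine Eq.trans (Eq.trans ?_ (Category.comp_id _))
    (congrArg (freeSh J).map (WidePullback.π_arrow (fun _ : Fin 1 => (Arrow.mk f).hom) 0).symm)
  exact ChainComplex.toSingle₀Equiv_symm_apply_f_zero _ _

lemma lift_of_exactHom {F : Sheaf J AddCommGrpCat.{u}}
    {S : ShortComplex (Sheaf J AddCommGrpCat.{u})} (hS : S.ShortExact) (e : S.X₁ = F)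
    (h : ∀ {K' K : Sheaf J (Type u)} (f : K' ⟶ K), Epi f → ExactHom (nerveP f) F 0)
    {K : Sheaf J (Type u)} (s : (freeSh J).obj K ⟶ S.X₃) :
    ∃ r : (freeSh J).obj K ⟶ S.X₂, r ≫ S.g = s := by
  subst e
  have := hS.mono_f
  have := hS.epi_g
  have hg : Sheaf.IsLocallySurjective S.g := (Sheaf.isLocallySurjective_iff_epi' _ S.g).2 inferInstance
  let adj := freeShAdj J
  let g' := (sheafCompose J (forget AddCommGrpCat.{u})).map S.g
  have : Sheaf.IsLocallySurjective g' :=
    (Presheaf.isLocallySurjective_iff_whisker_forget J S.g.hom).1 hg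
  let σ := adj.homEquiv _ _ s
  let p := pullback.snd g' σ
  have : Sheaf.IsLocallySurjective p := SheafTypes.isLocallySurjective_snd g' σ
  have : Epi p := inferInstance
  let t := (adj.homEquiv _ _).symm (pullback.fst g' σ)
  have ht : t ≫ S.g = (freeSh J).map p ≫ s := by
    apply (adj.homEquiv _ _).injective
    rw [adj.homEquiv_naturality_right, adj.homEquiv_naturality_left, Equiv.apply_symm_apply]
    exact pullback.condition
  let π : level p 0 ⟶ pullback g' σ := WidePullback.π (fun _ : Fin 1 => (Arrow.mk p).hom) 0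
  let x₀ : (nerveP p).X 0 ⟶ S.X₂ := (freeSh J).map π ≫ t
  have hx₀ : x₀ ≫ S.g = nerveε p ≫ s := by
    exact (Category.assoc _ _ _).trans ((congrArg ((freeSh J).map π ≫ ·) ht).trans
      ((Category.assoc _ _ _).symm.trans (congrArg (· ≫ s) (nerveε_eq p).symm)))
  obtain ⟨u, hu⟩ := exists_lift hS ((nerveP p).d 1 0 ≫ x₀) (by
    rw [Category.assoc, hx₀, ← Category.assoc, (isResolution p).w, zero_comp])
  obtain ⟨y, hy⟩ := h p inferInstance u (by
    rw [← cancel_mono S.f, Category.assoc, hu, (nerveP p).d_comp_d_assoc, zero_comp, zero_comp])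
  obtain ⟨r, hr⟩ := (isResolution p).exists_desc (x₀ - y ≫ S.f) (by
    rw [Preadditive.comp_sub, ← Category.assoc _ y, hy, hu, sub_self])
  refine ⟨r, ?_⟩
  have := (isResolution p).epi
  rw [← cancel_epi (nerveε p), ← Category.assoc, hr, Preadditive.sub_comp, Category.assoc y, S.zero,
    comp_zero, sub_zero, hx₀]

/-- Acyclic Cech complexes for all epimorphisms imply total acyclicity. -/
theorem isTotallyAcyclic_of_exactHom {F : Sheaf J AddCommGrpCat.{u}}
    (h : ∀ {K' K : Sheaf J (Type u)} (f : K' ⟶ K), Epi f → ∀ q, ExactHom (nerveP f) F q) :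
    CohCx.IsTotallyAcyclic F := by
  suffices H : ∀ (p : ℕ) (F : Sheaf J AddCommGrpCat.{u}),
      (∀ {K' K : Sheaf J (Type u)} (f : K' ⟶ K), Epi f → ∀ q, ExactHom (nerveP f) F q) →
      ∀ K, Subsingleton (CohCx.HK K F (p + 1)) by
    exact fun K p => H p F h K
  clear h F
  intro p
  induction p with
  | zero =>
    intro F h K
    refine subsingleton_of_forall_eq 0 fun x => ?_
    obtain ⟨y, rfl⟩ := exists_eq_comp_extClass F x
    obtain ⟨s, rfl⟩ := (Ext.mk₀_bijective _ _).2 y
    obtain ⟨r, rfl⟩ := lift_of_exactHom (embSES_shortExact F) rfl (fun f hf => h f hf 0) s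
    rw [← Ext.mk₀_comp_mk₀, Ext.comp_assoc (a₁₂ := 0) (a₂₃ := 1) _ _ _ (add_zero 0) (zero_add 1)
      (by omega), ShortComplex.ShortExact.comp_extClass, Ext.comp_zero]
    rfl
  | succ p ih =>
    intro F h K
    refine subsingleton_of_forall_eq 0 fun x => ?_
    obtain ⟨y, rfl⟩ := exists_eq_comp_extClass F x
    have : Subsingleton (CohCx.HK K (embSES F).X₃ (p + 1)) := by
      refine ih _ (fun {K₁ K₂} f hf q => ?_) K
      exact exactHom_X₃ (embSES_shortExact F) q
        (fun x => lift_of_exactHom (K := level f (q + 1)) (embSES_shortExact F) rfl (fun g hg => h g hg 0) x)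
        (exactHom_of_injective _ _ _ ((isResolution f).exactAt q)) (h f hf (q + 1))
    have h0 : y = 0 := Subsingleton.elim (α := CohCx.HK K (embSES F).X₃ (p + 1)) y 0
    rw [h0, Ext.zero_comp]
    try rfl

end Groth.Agent.Lib.SiteCoh.TotAcyclic
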