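import Groth.Agent.Lib.SiteCoh.CechFam

/-!
# Cech cohomology of sheaves acyclic on the members of a covering
-/

universe u

open CategoryTheory Limits Opposite Abelian

namespace Groth.Agent.Lib.SiteCoh.CechAcyclic

open Basic Kill InclBot CechFam

section General

variable {A : Type*} [Category A] [Abelian A] [HasExt.{u} A]

/-- The connecting map of a short exact sequence. -/
noncomputable def connHom {S : ShortComplex A} (hS : S.ShortExact) (Z : A) (n : ℕ) :
    Ext Z S.X₃ n →+ Ext Z S.X₁ (n + 1) :=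
  hS.extClass.postcomp Z rfl

lemma connHom_surjective {S : ShortComplex A} (hS : S.ShortExact) (Z : A) (n : ℕ)
    (h : ∀ x : Ext Z S.X₂ (n + 1), x = 0) : Function.Surjective (connHom hS Z n) := fun x => by
  obtain ⟨y, hy⟩ := Ext.covariant_sequence_exact₁ _ hS x (h _) rfl
  exact ⟨y, hy⟩

lemma connHom_eq_zero_iff {S : ShortComplex A} (hS : S.ShortExact) (Z : A) (n : ℕ)
    (y : Ext Z S.X₃ n) :
    connHom hS Z n y = 0 ↔ ∃ t : Ext Z S.X₂ n, t.comp (Ext.mk₀ S.g) (add_zero n) = y := by
  refine ⟨fun h => Ext.covariant_sequence_exact₃ _ hS y rfl h, ?_⟩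
  rintro ⟨t, rfl⟩
  change (t.comp (Ext.mk₀ S.g) (add_zero n)).comp hS.extClass rfl = 0
  rw [Ext.comp_assoc (a₁₂ := n) (a₂₃ := 1) t _ _ (add_zero n) (zero_add 1) (by omega),
    ShortComplex.ShortExact.comp_extClass, Ext.comp_zero]

/-- Two surjections with the same kernel have isomorphic targets. -/
noncomputable def equivOfSameKer {A₀ B₀ B₁ : Type*} [AddCommGroup A₀] [AddCommGroup B₀]
    [AddCommGroup B₁] (f : A₀ →+ B₀) (g : A₀ →+ B₁) (hf : Function.Surjective f)
    (hg : Function.Surjective g) (h : ∀ a, f a = 0 ↔ g a = 0) : B₀ ≃+ B₁ :=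
  (QuotientAddGroup.quotientKerEquivOfSurjective f hf).symm.trans
    ((QuotientAddGroup.quotientAddEquivOfEq (by ext a; exact h a)).trans
      (QuotientAddGroup.quotientKerEquivOfSurjective g hg))

end General

variable {C : Type u} [SmallCategory C] {J : GrothendieckTopology C}

section Cover

variable {X : C} {R : Sieve X} (hR : R ∈ J X)

/-- A section as a map out of the free presheaf on a covering sieve. -/
noncomputable def secHom (F : Sheaf J AddCommGrpCat.{u}) :
    F.obj.obj (op X) → (freeBot R.functor ⟶ (inclBot J).obj F) := fun s =>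
  (freeBotEquiv R.functor ((inclBot J).obj F)).symm (R.functorInclusion ≫ yonedaEquiv.symm s)

lemma freeBotEquiv_secHom (F : Sheaf J AddCommGrpCat.{u}) (s : F.obj.obj (op X)) :
    freeBotEquiv R.functor ((inclBot J).obj F) (secHom F s) =
      R.functorInclusion ≫ yonedaEquiv.symm s :=
  Equiv.apply_symm_apply _ _

include hR in
lemma secHom_bijective (F : Sheaf J AddCommGrpCat.{u}) :
    Function.Bijective (secHom (R := R) F) := by
  refine ⟨fun s t h => ?_, fun f => ?_⟩
  · have h' := congrArg (freeBotEquiv R.functor ((inclBot J).obj F)) h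
    rw [freeBotEquiv_secHom, freeBotEquiv_secHom] at h'
    obtain ⟨g, -, hu⟩ := exists_extension F hR
      (R.functorInclusion ≫ yonedaEquiv.symm t)
    exact yonedaEquiv.symm.injective ((hu _ h').trans (hu _ rfl).symm)
  · obtain ⟨g, hg, -⟩ := exists_extension F hR (freeBotEquiv R.functor ((inclBot J).obj F) f)
    refine ⟨yonedaEquiv g, (freeBotEquiv R.functor ((inclBot J).obj F)).injective ?_⟩
    rw [freeBotEquiv_secHom]
    exact (congrArg (R.functorInclusion ≫ ·) (yonedaEquiv.symm_apply_apply g)).trans hg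

lemma secHom_comp {F G : Sheaf J AddCommGrpCat.{u}} (φ : F ⟶ G) (s : F.obj.obj (op X)) :
    secHom (R := R) F s ≫ (inclBot J).map φ = secHom G (φ.hom.app (op X) s) := by
  apply (freeBotEquiv R.functor ((inclBot J).obj G)).injective
  rw [freeBotEquiv_comp, freeBotEquiv_secHom, freeBotEquiv_secHom, Category.assoc]
  congr 1
  apply yonedaEquiv.injective
  rw [yonedaEquiv_comp, Equiv.apply_symm_apply, Equiv.apply_symm_apply]
  rfl

lemma freeBotEquiv_add {P : Cᵒᵖ ⥤ Type u}
    {G : Sheaf (⊥ : GrothendieckTopology C) AddCommGrpCat.{u}} (f g : freeBot P ⟶ G) {V : Cᵒᵖ}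
    (x : P.obj V) :
    ((freeBotEquiv P G (f + g)).app V x : G.obj.obj V) =
      ((freeBotEquiv P G f).app V x : G.obj.obj V) + ((freeBotEquiv P G g).app V x : G.obj.obj V) :=
  rfl

/-- A section as a map out of the free presheaf on a covering sieve, additively. -/
noncomputable def secHomAdd (F : Sheaf J AddCommGrpCat.{u}) :
    F.obj.obj (op X) →+ (freeBot R.functor ⟶ (inclBot J).obj F) :=
  AddMonoidHom.mk' (secHom F) fun s t => by
    apply (freeBotEquiv R.functor ((inclBot J).obj F)).injective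
    ext V ⟨g, hg⟩
    refine Eq.trans ?_ (freeBotEquiv_add _ _ _).symm
    simp only [freeBotEquiv_secHom]
    exact map_add (F.obj.map g.op).hom s t

end Cover

section Surjective

/-- Surjectivity on sections from the vanishing of one `Ext¹` out of a covering sieve. -/
lemma surjective_app_of_ext_one {S : ShortComplex (Sheaf J AddCommGrpCat.{u})}
    (hS : S.ShortExact) {X : C}
    (hF : ∀ T ∈ J X, ∃ R ∈ J X, R ≤ T ∧
      ∀ x : Ext (freeBot R.functor) ((inclBot J).obj S.X₁) 1, x = 0) :
    Function.Surjective (S.g.hom.app (op X)) := by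
  intro s
  have : Sheaf.IsLocallySurjective S.g := (Sheaf.isLocallySurjective_iff_epi' _ _).2 hS.epi_g
  obtain ⟨R, hR, hle, hR1⟩ := hF _ (Presheaf.imageSieve_mem J S.g.hom s)
  let T := S.map (inclBot J)
  have := hS.mono_f
  have : Mono T.f := inferInstanceAs (Mono ((inclBot J).map S.f))
  have hT : T.Exact := ShortComplex.exact_of_f_is_kernel _
    (KernelFork.mapIsLimit _ hS.fIsKernel (inclBot J))
  let z : freeBot R.functor ⟶ T.X₃ := secHom S.X₃ s
  have hz : z ≫ cokernel.π T.g = 0 := by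
    apply (freeBotEquiv R.functor _).injective
    refine Eq.trans ?_ ((congrArg (freeBotEquiv R.functor _) (zero_comp (X := freeBot R.functor)
      (f := cokernel.π T.g))))
    rw [freeBotEquiv_comp, freeBotEquiv_comp, show freeBotEquiv R.functor T.X₃ z =
      R.functorInclusion ≫ yonedaEquiv.symm s from freeBotEquiv_secHom _ _]
    ext V ⟨h, hh⟩
    obtain ⟨w, hw⟩ := hle _ hh
    have key : ∀ y, (cokernel.π T.g).hom.app V (T.g.hom.app V y) = 0 := fun y => by
      rw [← ConcreteCategory.comp_apply, ← NatTrans.comp_app,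
        show T.g.hom ≫ (cokernel.π T.g).hom = (T.g ≫ cokernel.π T.g).hom from rfl,
        cokernel.condition]
      rfl
    have h0 : ((freeBotEquiv R.functor T.X₃) 0).app V ⟨h, hh⟩ = (0 : T.X₃.obj.obj V) := by
      change (((AddCommGrpCat.adj.whiskerRight Cᵒᵖ).comp
        (sheafificationAdjunction ⊥ AddCommGrpCat.{u})).homEquiv R.functor T.X₃ 0).app V _ = _
      rw [Adjunction.homEquiv_unit]
      rfl
    change (cokernel.π T.g).hom.app V (S.X₃.obj.map h.op s) =
      (cokernel.π T.g).hom.app V (((freeBotEquiv R.functor T.X₃) 0).app V ⟨h, hh⟩)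
    rw [h0, map_zero, ← hw]
    exact key w
  obtain ⟨t, ht⟩ := exists_lift T hT z hz hR1
  obtain ⟨a, rfl⟩ := (secHom_bijective hR S.X₂).2 t
  refine ⟨a, (secHom_bijective hR S.X₃).1 ?_⟩
  exact (secHom_comp S.g a).symm.trans ht

end Surjective

variable [HasPullbacks C] {X : C} {ι : Type u} (Y : ι → Over X)

/-- Cech cohomology of a sheaf as `Ext` out of the sieve. -/
lemma nonempty_cechH_iso (F : Sheaf J AddCommGrpCat.{u}) (q : ℕ) :
    Nonempty (CohCx.cechH F.obj Y q ≅
      AddCommGrpCat.of (Ext (freeBot (sieve Y).functor) ((inclBot J).obj F) q)) :=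
  nonempty_cechH_iso_ext Y ((inclBot J).obj F) q

lemma isZero_cechH_iff (F : Sheaf J AddCommGrpCat.{u}) (q : ℕ) :
    IsZero (CohCx.cechH F.obj Y q) ↔
      ∀ x : Ext (freeBot (sieve Y).functor) ((inclBot J).obj F) q, x = 0 := by
  obtain ⟨e⟩ := nonempty_cechH_iso Y F q
  refine ⟨fun h x => ?_, fun h => IsZero.of_iso (@AddCommGrpCat.isZero_of_subsingleton
    (AddCommGrpCat.of (Ext (freeBot (sieve Y).functor) ((inclBot J).obj F) q))
    (subsingleton_of_forall_eq 0 h)) e⟩
  exact @Subsingleton.elim _ (AddCommGrpCat.subsingleton_of_isZero (h.of_iso e.symm)) x 0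

/-- Presheaves vanishing on the members have no `Ext` from the sieve. -/
lemma ext_eq_zero_of_members (N : Sheaf (⊥ : GrothendieckTopology C) AddCommGrpCat.{u})
    (hN : ∀ (n : ℕ) (a : Fin (n + 1) → ι),
      Subsingleton (N.obj.obj (op (∏ᶜ fun k => Y (a k)).left)))
    (q : ℕ) (x : Ext (freeBot (sieve Y).functor) N q) : x = 0 := by
  obtain ⟨e⟩ := nonempty_cechH_iso_ext Y N q
  have h : IsZero (CohCx.cechH N.obj Y q) :=
    ShortComplex.isZero_homology_of_isZero_X₂ _ (by
      refine @AddCommGrpCat.isZero_of_subsingleton _ ⟨fun a b => Concrete.limit_ext _ _ _ fun ⟨i⟩ => ?_⟩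
      exact (hN q i).elim _ _)
  exact @Subsingleton.elim _ (AddCommGrpCat.subsingleton_of_isZero (h.of_iso e.symm)) x 0

/-- The sequence `0 → F → I → Q` stays exact, with surjections on the members. -/
structure MemberSES (S : ShortComplex (Sheaf J AddCommGrpCat.{u})) : Prop where
  shortExact : S.ShortExact
  surj : ∀ (n : ℕ) (a : Fin (n + 1) → ι),
    Function.Surjective (S.g.hom.app (op (∏ᶜ fun k => Y (a k)).left))
  injective : Injective S.X₂

variable {Y} {S : ShortComplex (Sheaf J AddCommGrpCat.{u})} (hS : MemberSES Y S)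

include hS

/-- The image of `I → Q` in presheaves. -/
lemma exists_image : ∃ (P : Sheaf (⊥ : GrothendieckTopology C) AddCommGrpCat.{u})
    (π : (inclBot J).obj S.X₂ ⟶ P) (m : P ⟶ (inclBot J).obj S.X₃)
    (w : (inclBot J).map S.f ≫ π = 0),
    π ≫ m = (inclBot J).map S.g ∧ (ShortComplex.mk _ _ w).ShortExact ∧
    ∀ n, Function.Bijective
      (fun x : Ext (freeBot (sieve Y).functor) P n => x.comp (Ext.mk₀ m) (add_zero n)) := by
  let T := S.map (inclBot J)
  have := hS.shortExact.mono_f
  have : Mono T.f := inferInstanceAs (Mono ((inclBot J).map S.f))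
  have hT : T.Exact := ShortComplex.exact_of_f_is_kernel _
    (KernelFork.mapIsLimit _ hS.shortExact.fIsKernel (inclBot J))
  let π := Abelian.factorThruImage T.g
  have w : T.f ≫ π = 0 := (cancel_mono (Abelian.image.ι T.g)).1 (by
      rw [Category.assoc, Abelian.image.fac, T.zero, zero_comp])
  have hA : (ShortComplex.mk _ _ w).ShortExact := by
    let φ : ShortComplex.mk _ _ w ⟶ T :=
      { τ₁ := 𝟙 _, τ₂ := 𝟙 _, τ₃ := Abelian.image.ι T.g }
    have : Epi φ.τ₁ := inferInstanceAs (Epi (𝟙 _))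
    have : IsIso φ.τ₂ := inferInstanceAs (IsIso (𝟙 _))
    have : Mono φ.τ₃ := inferInstanceAs (Mono (Abelian.image.ι T.g))
    exact ShortComplex.ShortExact.mk' ((ShortComplex.exact_iff_of_epi_of_isIso_of_mono φ).2 hT)
      ‹Mono T.f› (inferInstanceAs (Epi (Abelian.factorThruImage T.g)))
  let B := ShortComplex.mk (Abelian.image.ι T.g) (cokernel.π T.g) (kernel.condition _)
  have hB : B.ShortExact :=
    ShortComplex.ShortExact.mk' (ShortComplex.exact_of_f_is_kernel _ (kernelIsKernel _))
      inferInstance inferInstance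
  have hN : ∀ (q : ℕ) (x : Ext (freeBot (sieve Y).functor) B.X₃ q), x = 0 :=
    ext_eq_zero_of_members Y _ fun n a => by
      refine subsingleton_of_forall_eq 0 fun z => ?_
      have : Sheaf.IsLocallySurjective (cokernel.π T.g) :=
        (Sheaf.isLocallySurjective_iff_epi' _ _).2 inferInstance
      have hmem := Presheaf.imageSieve_mem (⊥ : GrothendieckTopology C) (cokernel.π T.g).hom
        (U := op (∏ᶜ fun k => Y (a k)).left) z
      rw [GrothendieckTopology.bot_covering] at hmem
      have h1 : (Presheaf.imageSieve (cokernel.π T.g).hom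
          (U := (∏ᶜ fun k => Y (a k)).left) z).arrows (𝟙 _) := by rw [hmem]; trivial
      obtain ⟨y, hy⟩ := h1
      obtain ⟨t, rfl⟩ := hS.surj n a y
      simp only [op_id, CategoryTheory.Functor.map_id] at hy
      exact hy.symm.trans (ConcreteCategory.congr_hom
        (NatTrans.congr_app (congrArg (·.hom) (cokernel.condition T.g)) _) t)
  refine ⟨_, π, Abelian.image.ι T.g, w, Abelian.image.fac _, hA, fun n => ⟨?_, fun x => ?_⟩⟩
  · intro x x' h
    rw [← sub_eq_zero]
    have h0 : (x - x').comp (Ext.mk₀ B.f) (add_zero n) = 0 := by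
      rw [sub_eq_add_neg, Ext.add_comp, Ext.neg_comp]
      exact add_neg_eq_zero.2 h
    cases n with
    | zero =>
      obtain ⟨f, hf⟩ := (Ext.mk₀_bijective _ _).2 (x - x')
      rw [← hf, Ext.mk₀_comp_mk₀] at h0
      have : f ≫ B.f = 0 := (Ext.mk₀_bijective _ _).1 (h0.trans (Ext.mk₀_zero _ _).symm)
      rw [← hf, (cancel_mono B.f).1 (this.trans zero_comp.symm), Ext.mk₀_zero]
    | succ m =>
      obtain ⟨y, hy⟩ := Ext.covariant_sequence_exact₁ _ hB _ h0 rfl
      rw [← hy, hN m y, Ext.zero_comp]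
  · obtain ⟨y, hy⟩ := Ext.covariant_sequence_exact₂ _ hB x (hN n _)
    exact ⟨y, hy⟩

/-- **Dimension shift**: the presheaf `Ext^{n+1}` of `F` is a quotient of that of `Q`. -/
theorem exists_shift (n : ℕ) :
    ∃ ψ : Ext (freeBot (sieve Y).functor) ((inclBot J).obj S.X₃) n →+
        Ext (freeBot (sieve Y).functor) ((inclBot J).obj S.X₁) (n + 1),
      Function.Surjective ψ ∧ ∀ y, ψ y = 0 ↔
        ∃ t : Ext (freeBot (sieve Y).functor) ((inclBot J).obj S.X₂) n,
          t.comp (Ext.mk₀ ((inclBot J).map S.g)) (add_zero n) = y := by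
  obtain ⟨P, π, m, w, hπm, hA, hm⟩ := exists_image hS
  have := hS.injective
  let e : Ext (freeBot (sieve Y).functor) P n ≃+
      Ext (freeBot (sieve Y).functor) ((inclBot J).obj S.X₃) n :=
    AddEquiv.ofBijective ((Ext.mk₀ m).postcomp _ (add_zero n)) (hm n)
  have he : ∀ t : Ext (freeBot (sieve Y).functor) ((inclBot J).obj S.X₂) n,
      e (t.comp (Ext.mk₀ π) (add_zero n)) = t.comp (Ext.mk₀ ((inclBot J).map S.g)) (add_zero n) :=
    fun t => by
    change (t.comp (Ext.mk₀ π) (add_zero n)).comp (Ext.mk₀ m) (add_zero n) = _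
    rw [Ext.comp_assoc (a₁₂ := n) (a₂₃ := 0) t _ _ (add_zero n) (add_zero 0) (by omega),
      Ext.mk₀_comp_mk₀, hπm]
  refine ⟨(connHom hA _ n).comp e.symm.toAddMonoidHom,
    (connHom_surjective hA _ n fun x => Ext.eq_zero_of_injective x).comp e.symm.surjective,
    fun y => (connHom_eq_zero_iff hA _ n _).trans ?_⟩
  exact ⟨fun ⟨t, ht⟩ => ⟨t, by rw [← he]; exact (congrArg e ht).trans (e.apply_symm_apply y)⟩,
    fun ⟨t, ht⟩ => ⟨t, e.injective ((he t).trans (ht.trans (e.apply_symm_apply y).symm))⟩⟩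

omit hS

/-- Vanishing of Cech cohomology passes to the cokernel. -/
theorem isZero_cechH_X₃ (hS : MemberSES Y S) (p : ℕ)
    (h : IsZero (CohCx.cechH S.X₁.obj Y (p + 2))) : IsZero (CohCx.cechH S.X₃.obj Y (p + 1)) := by
  rw [isZero_cechH_iff] at h ⊢
  obtain ⟨ψ, -, hψ⟩ := exists_shift hS (p + 1)
  have := hS.injective
  intro y
  obtain ⟨t, rfl⟩ := (hψ y).1 (h _)
  rw [Ext.eq_zero_of_injective t, Ext.zero_comp]

lemma memberSES_embSES {F : Sheaf J AddCommGrpCat.{u}}
    (h : ∀ (n : ℕ) (a : Fin (n + 1) → ι),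
      Function.Surjective ((embSES F).g.hom.app (op (∏ᶜ fun k => Y (a k)).left))) :
    MemberSES Y (embSES F) :=
  ⟨embSES_shortExact F, h, inferInstanceAs (Injective (Injective.under F))⟩

variable (Y) in
/-- **Cech cohomology computes cohomology for sheaves acyclic on the members.** -/
theorem nonempty_cechH_equiv_hu (hY : sieve Y ∈ J X) (p : ℕ) :
    ∀ (F : Sheaf J AddCommGrpCat.{u}),
      (∀ (n : ℕ) (a : Fin (n + 1) → ι) (q : ℕ),
        Subsingleton (CohSite.HU F (q + 1) (∏ᶜ fun k => Y (a k)).left)) →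
      Nonempty (Ext (freeBot (sieve Y).functor) ((inclBot J).obj F) p ≃+ CohSite.HU F p X) := by
  induction p with
  | zero =>
    intro F _
    exact ⟨(Ext.addEquiv₀.trans
      (AddEquiv.ofBijective (secHomAdd F) (secHom_bijective hY F)).symm).trans (ext0Equiv F X).symm⟩
  | succ p ih =>
    intro F hF
    have hS := memberSES_embSES (F := F) fun n a =>
      Acyclic.surjective_app_of_subsingleton (embSES_shortExact F) (hF n a 0)
    obtain ⟨ψ, hψ, hψ0⟩ := exists_shift hS p
    have : Injective (embSES F).X₂ := inferInstanceAs (Injective (Injective.under F))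
    let χ : CohSite.HU (embSES F).X₃ p X →+ CohSite.HU F (p + 1) X :=
      connHom (embSES_shortExact F) (CohCx.freeSheaf J X) p
    have hχ : Function.Surjective χ :=
      connHom_surjective (embSES_shortExact F) _ p fun x => Ext.eq_zero_of_injective x
    cases p with
    | zero =>
      let a : (embSES F).X₃.obj.obj (op X) →+
          Ext (freeBot (sieve Y).functor) ((inclBot J).obj (embSES F).X₃) 0 :=
        Ext.addEquiv₀.symm.toAddMonoidHom.comp (secHomAdd (embSES F).X₃)
      let b : (embSES F).X₃.obj.obj (op X) →+ Ext (CohCx.freeSheaf J X) (embSES F).X₃ 0 :=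
        (ext0Equiv _ X).symm.toAddMonoidHom
      have ha : Function.Bijective a :=
        Ext.addEquiv₀.symm.bijective.comp (secHom_bijective hY _)
      have hga : ∀ r, (Ext.addEquiv₀.symm (secHom (R := sieve Y) (embSES F).X₂ r)).comp
          (Ext.mk₀ ((inclBot J).map (embSES F).g)) (add_zero 0) =
          a ((embSES F).g.hom.app (op X) r) := fun r => by
        change (Ext.mk₀ _).comp (Ext.mk₀ _) (add_zero 0) = Ext.mk₀ _
        rw [Ext.mk₀_comp_mk₀]
        exact congrArg Ext.mk₀ (secHom_comp _ r)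
      refine ⟨equivOfSameKer (ψ.comp a) (χ.comp b) (hψ.comp ha.2)
        (hχ.comp (ext0Equiv _ X).symm.surjective) fun s => ?_⟩
      have h1 : (ψ.comp a) s = 0 ↔ ∃ r, (embSES F).g.hom.app (op X) r = s := by
        refine (hψ0 _).trans ⟨fun ⟨t, ht⟩ => ?_, fun ⟨r, hr⟩ => ?_⟩
        · obtain ⟨f, rfl⟩ := (Ext.addEquiv₀ (X := freeBot (sieve Y).functor)).symm.surjective t
          obtain ⟨r, rfl⟩ := (secHom_bijective hY (embSES F).X₂).2 f
          exact ⟨r, ha.1 ((hga r).symm.trans ht)⟩
        · exact ⟨_, (hga r).trans (congrArg a hr)⟩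
      have h2 : (χ.comp b) s = 0 ↔ ∃ r, (embSES F).g.hom.app (op X) r = s := by
        refine (connHom_eq_zero_iff (embSES_shortExact F) _ 0 (b s)).trans
          ⟨fun ⟨t, ht⟩ => ⟨ext0Equiv _ X t, ?_⟩, fun ⟨r, hr⟩ => ⟨(ext0Equiv _ X).symm r, ?_⟩⟩
        · rw [← ext0Equiv_comp_mk₀, ht]
          exact (ext0Equiv _ X).apply_symm_apply s
        · apply (ext0Equiv _ X).injective
          rw [ext0Equiv_comp_mk₀, AddEquiv.apply_symm_apply, hr]
          exact ((ext0Equiv _ X).apply_symm_apply s).symm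
      exact h1.trans h2.symm
    | succ m =>
      have hQ : ∀ (n : ℕ) (a : Fin (n + 1) → ι) (q : ℕ),
          Subsingleton (CohSite.HU (embSES F).X₃ (q + 1) (∏ᶜ fun k => Y (a k)).left) :=
        fun n a q => by
          refine (subsingleton_hu_iff _ _ _).2 fun z => ?_
          obtain ⟨t, rfl⟩ := Ext.covariant_sequence_exact₃ _ (embSES_shortExact F) z rfl
            (((subsingleton_hu_iff _ _ _).1 (hF n a (q + 1))) _)
          rw [Ext.eq_zero_of_injective t, Ext.zero_comp]
      obtain ⟨e⟩ := ih (embSES F).X₃ hQ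
      have hψi : Function.Injective ψ := by
        rw [injective_iff_map_eq_zero]
        intro y hy
        obtain ⟨t, rfl⟩ := (hψ0 y).1 hy
        have := hS.injective
        rw [Ext.eq_zero_of_injective t, Ext.zero_comp]
      have hχi : Function.Injective χ := by
        rw [injective_iff_map_eq_zero]
        intro y hy
        obtain ⟨t, rfl⟩ := (connHom_eq_zero_iff (embSES_shortExact F) _ (m + 1) y).1 hy
        rw [Ext.eq_zero_of_injective t, Ext.zero_comp]
        rfl
      exact ⟨((AddEquiv.ofBijective ψ ⟨hψi, hψ⟩).symm.trans e).trans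
        (AddEquiv.ofBijective χ ⟨hχi, hχ⟩)⟩

section Collection

variable (B : Set C) (Cov : ∀ (U : C) (ι : Type u), (ι → Over U) → Prop)

variable (J) in
/-- A collection of coverings stable enough to compute cohomology. -/
structure IsCovCollection : Prop where
  mem : ∀ (U : C) (ι : Type u) (Y : ι → Over U), Cov U ι Y → sieve Y ∈ J U ∧
      ∀ (p : ℕ) (a : Fin (p + 1) → ι), (∏ᶜ fun k => Y (a k)).left ∈ B
  refine' : ∀ U ∈ B, ∀ T ∈ J U, ∃ (ι : Type u) (Y : ι → Over U), Cov U ι Y ∧ ∀ i, T.arrows (Y i).hom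

/-- Cech acyclicity on a collection gives acyclicity. -/
theorem subsingleton_hu_of_collection (hB : IsCovCollection J B Cov) (p : ℕ) :
    ∀ (F : Sheaf J AddCommGrpCat.{u}),
      (∀ (U : C) (ι : Type u) (Y : ι → Over U), Cov U ι Y →
        ∀ q : ℕ, IsZero (CohCx.cechH F.obj Y (q + 1))) →
      ∀ U ∈ B, Subsingleton (CohSite.HU F (p + 1) U) := by
  have hsurj : ∀ (F : Sheaf J AddCommGrpCat.{u}),
      (∀ (U : C) (ι : Type u) (Y : ι → Over U), Cov U ι Y →
        ∀ q : ℕ, IsZero (CohCx.cechH F.obj Y (q + 1))) →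
      ∀ U ∈ B, Function.Surjective ((embSES F).g.hom.app (op U)) := fun F hF U hU =>
    surjective_app_of_ext_one (embSES_shortExact F) fun T hT => by
      obtain ⟨ι, Y, hcov, hle⟩ := hB.refine' U hU T hT
      refine ⟨sieve Y, (hB.mem U ι Y hcov).1, ?_, (isZero_cechH_iff Y F 1).1 (hF U ι Y hcov 0)⟩
      intro V f hf
      obtain ⟨j, g, rfl⟩ := (Sieve.mem_ofArrows_iff _ _ _).1 hf
      exact T.downward_closed (hle j) g
  induction p with
  | zero =>
    intro F hF U hU
    exact (subsingleton_hu_iff _ _ U).2 fun x => Acyclic.ext_one_eq_zero (embSES_shortExact F)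
      (hsurj F hF U hU) x (Ext.eq_zero_of_injective _)
  | succ n ih =>
    intro F hF U hU
    refine (subsingleton_hu_iff _ _ U).2 fun x => ?_
    obtain ⟨y, rfl⟩ := exists_eq_comp_extClass F x
    have hQ : ∀ (U : C) (ι : Type u) (Y : ι → Over U), Cov U ι Y →
        ∀ q : ℕ, IsZero (CohCx.cechH (embSES F).X₃.obj Y (q + 1)) := fun V ι Y hcov q =>
      isZero_cechH_X₃ (memberSES_embSES fun n a => hsurj F hF _ ((hB.mem V ι Y hcov).2 n a)) q
        (hF V ι Y hcov (q + 1))
    rw [(subsingleton_hu_iff (embSES F).X₃ _ U).1 (ih _ hQ U hU) y, Ext.zero_comp]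
    rfl

end Collection

end Groth.Agent.Lib.SiteCoh.CechAcyclic
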