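import Mathlib.CategoryTheory.Sites.EpiMono
import Mathlib.CategoryTheory.Sites.Abelian
import Mathlib.Algebra.Category.Grp.Abelian
import Mathlib.Algebra.Category.Grp.Adjunctions
import Mathlib.Algebra.Category.Grp.FilteredColimits
import Mathlib.Algebra.Category.Grp.AB
import Mathlib.CategoryTheory.ConcreteCategory.EpiMono
import Mathlib.Algebra.Category.Grp.EpiMono
import Mathlib.CategoryTheory.Sites.LeftExact
import Mathlib.CategoryTheory.Sites.ConcreteSheafification
import Mathlib.Algebra.Homology.ShortComplex.Exact

/-!
# Exactness after sheafification from local exactness of presheaves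
-/

universe u

open CategoryTheory Limits Opposite

namespace Groth.Agent.Lib.SiteCoh.LocExact

variable {C : Type u} [SmallCategory C] {J : GrothendieckTopology C}

/-- A locally surjective map of abelian presheaves becomes epi after sheafification. -/
lemma epi_map_of_isLocallySurjective {P Q : Cᵒᵖ ⥤ AddCommGrpCat.{u}} (f : P ⟶ Q)
    (h : Presheaf.IsLocallySurjective J f) : Epi ((presheafToSheaf J AddCommGrpCat.{u}).map f) :=
  (Sheaf.isLocallySurjective_iff_epi' _ _).1
    ((Presheaf.isLocallySurjective_presheafToSheaf_map_iff J f).2 h)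

/-- A locally exact short complex of presheaves becomes exact after sheafification. -/
theorem exact_map_of_locally_exact (S : ShortComplex (Cᵒᵖ ⥤ AddCommGrpCat.{u}))
    (h : ∀ (U : C) (x : S.X₂.obj (op U)), S.g.app (op U) x = 0 →
      ∃ R ∈ J U, ∀ ⦃V : C⦄ (g : V ⟶ U), R.arrows g →
        ∃ w : S.X₁.obj (op V), S.f.app (op V) w = S.X₂.map g.op x) :
    (S.map (presheafToSheaf J AddCommGrpCat.{u})).Exact := by
  let F := presheafToSheaf J AddCommGrpCat.{u}
  let l := kernel.lift S.g S.f S.zero
  have hl : Presheaf.IsLocallySurjective J l := ⟨fun {U} s => by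
    have hs : S.g.app (op U) ((kernel.ι S.g).app (op U) s) = 0 := by
      rw [← ConcreteCategory.comp_apply, ← NatTrans.comp_app, kernel.condition]
      rfl
    obtain ⟨R, hR, hR'⟩ := h U _ hs
    refine J.superset_covering ?_ hR
    intro V g hg
    obtain ⟨w, hw⟩ := hR' g hg
    refine ⟨w, ?_⟩
    have : Mono ((kernel.ι S.g).app (op V)) := inferInstance
    apply (AddCommGrpCat.mono_iff_injective _).1 this
    rw [← ConcreteCategory.comp_apply, ← NatTrans.comp_app, kernel.lift_ι, hw,
      NatTrans.naturality_apply (kernel.ι S.g) g.op]⟩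
  have := epi_map_of_isLocallySurjective l hl
  rw [ShortComplex.exact_iff_epi_kernel_lift]
  have hz : F.map S.f ≫ F.map S.g = 0 := by rw [← F.map_comp, S.zero, F.map_zero]
  have e : kernel.lift (F.map S.g) (F.map S.f) hz =
      F.map l ≫ (PreservesKernel.iso F S.g).hom := by
    rw [← cancel_mono (kernel.ι (F.map S.g)), kernel.lift_ι, Category.assoc]
    simp [l, PreservesKernel.iso_hom, ← Functor.map_comp]
  have : Epi (F.map l) := this
  change Epi (kernel.lift (F.map S.g) (F.map S.f) hz)
  rw [e]
  infer_instance

end Groth.Agent.Lib.SiteCoh.LocExact
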