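import Groth.Agent.Lib.SiteCoh.Basic
import Groth.Agent.Lib.SpecSeq.HomExt
import Mathlib.Algebra.Homology.ShortComplex.Ab
import Mathlib.CategoryTheory.Abelian.Exact

/-!
# The cohomology presheaf as the homology of an injective resolution on sections
-/

universe u

open CategoryTheory Limits Opposite Abelian

namespace Groth.Agent.Lib.SiteCoh.CohPresheaf

open Basic SpecSeq

lemma mk₀_comp_extMk {A : Type*} [Category A] [Abelian A] [HasExt.{u} A] {X X' Y : A}
    (R : InjectiveResolution Y) (g : X' ⟶ X) {n : ℕ} (f : X ⟶ R.cocomplex.X n) (m : ℕ)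
    (hm : n + 1 = m) (hf : f ≫ R.cocomplex.d n m = 0) :
    (Ext.mk₀ g).comp (R.extMk f m hm hf) (zero_add n) =
      R.extMk (g ≫ f) m hm (by rw [Category.assoc, hf, comp_zero]) :=
  InjectiveResolution.mk₀_comp_extMk R f m hm hf g

variable {C : Type u} [SmallCategory C] {J : GrothendieckTopology C}
  {F : Sheaf J AddCommGrpCat.{u}} (R : InjectiveResolution F)

/-- Sections of an injective resolution, as a complex of presheaves. -/
noncomputable abbrev presheafCx : CochainComplex (Cᵒᵖ ⥤ AddCommGrpCat.{u}) ℕ :=
  ((sheafToPresheaf J AddCommGrpCat.{u}).mapHomologicalComplex _).obj R.cocomplex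

lemma symm_comp_d (q : ℕ) (U : C) (z : ((presheafCx R).cycles q).obj (op U)) :
    (homEquiv U (R.cocomplex.X q)).symm (((presheafCx R).iCycles q).app (op U) z) ≫
      R.cocomplex.d q (q + 1) = 0 := by
  rw [homEquiv_symm_comp]
  have : (R.cocomplex.d q (q + 1)).hom.app (op U) (((presheafCx R).iCycles q).app (op U) z) = 0 :=
    ConcreteCategory.congr_hom
      (NatTrans.congr_app ((presheafCx R).iCycles_d q (q + 1)) (op U)) z
  rw [this, map_zero]

lemma extMk_congr {A : Type*} [Category A] [Abelian A] [HasExt.{u} A] {X Y : A}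
    (R : InjectiveResolution Y) {n : ℕ} {f g : X ⟶ R.cocomplex.X n} (m : ℕ)
    (hm : n + 1 = m) (hf : f ≫ R.cocomplex.d n m = 0) (hg : g ≫ R.cocomplex.d n m = 0)
    (h : f = g) : R.extMk f m hm hf = R.extMk g m hm hg := by
  subst h
  rfl

/-- The class of a cycle. -/
noncomputable def cycleClass (q : ℕ) (U : C) :
    ((presheafCx R).cycles q).obj (op U) →+ Ext (CohCx.freeSheaf J U) F q :=
  AddMonoidHom.mk' (fun z => R.extMk
      ((homEquiv U (R.cocomplex.X q)).symm (((presheafCx R).iCycles q).app (op U) z))
      (q + 1) rfl (symm_comp_d R q U z))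
    (fun a b => Eq.trans (extMk_congr R (q + 1) rfl _
        (by rw [Preadditive.add_comp]; exact (congrArg₂ (· + ·) (symm_comp_d R q U a) (symm_comp_d R q U b)).trans (add_zero _))
        ((congrArg (homEquiv U (R.cocomplex.X q)).symm (map_add _ a b)).trans (map_add _ _ _)))
      (R.add_extMk _ _ (q + 1) rfl (symm_comp_d R q U a) (symm_comp_d R q U b)).symm)

lemma cycleClass_naturality (q : ℕ) {U V : C} (g : V ⟶ U)
    (z : ((presheafCx R).cycles q).obj (op U)) :
    cycleClass R q V (((presheafCx R).cycles q).map g.op z) =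
      (Ext.mk₀ (CohCx.freeSheafMap J g)).comp (cycleClass R q U z) (zero_add q) := by
  refine Eq.trans ?_ (mk₀_comp_extMk R (CohCx.freeSheafMap J g) _ (q + 1) rfl (symm_comp_d R q U z)).symm
  refine extMk_congr R _ rfl (symm_comp_d R q V _) _ ?_
  apply (homEquiv V (R.cocomplex.X q)).injective
  rw [AddEquiv.apply_symm_apply, homEquiv'_naturality_left, AddEquiv.apply_symm_apply]
  exact NatTrans.naturality_apply ((presheafCx R).iCycles q) g.op z

/-- Cocycles give cohomology classes. -/
noncomputable def cyclesMap (q : ℕ) : (presheafCx R).cycles q ⟶ Sheaf.cohomologyPresheaf.{u} F q where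
  app U := AddCommGrpCat.ofHom (cycleClass R q U.unop)
  naturality U V g := by
    ext z
    exact cycleClass_naturality R q g.unop z

lemma cyclesMap_app (q : ℕ) (U : C) (z : ((presheafCx R).cycles q).obj (op U)) :
    (cyclesMap R q).app (op U) z = R.extMk
      ((homEquiv U (R.cocomplex.X q)).symm (((presheafCx R).iCycles q).app (op U) z))
      (q + 1) rfl (symm_comp_d R q U z) := rfl

lemma toCycles_cyclesMap (q : ℕ) :
    (presheafCx R).toCycles ((ComplexShape.up ℕ).prev q) q ≫ cyclesMap R q = 0 := by
  cases q with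
  | zero =>
    have : (presheafCx R).toCycles ((ComplexShape.up ℕ).prev 0) 0 = 0 := by
      rw [← cancel_mono ((presheafCx R).iCycles 0), HomologicalComplex.toCycles_i, zero_comp,
        (presheafCx R).shape _ _ (by simp)]
    rw [this, zero_comp]
  | succ m =>
    rw [show (ComplexShape.up ℕ).prev (m + 1) = m by simp]
    ext ⟨U⟩ x
    refine (R.extMk_eq_zero_iff _ (m + 2) rfl (symm_comp_d R (m + 1) U _) m rfl).2 ⟨(homEquiv U (R.cocomplex.X m)).symm x, ?_⟩
    rw [homEquiv_symm_comp]
    congr 1
    exact (ConcreteCategory.congr_hom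
      (NatTrans.congr_app ((presheafCx R).toCycles_i m (m + 1)) (op U)) x).symm

/-- Homology of sections maps to the cohomology presheaf. -/
noncomputable def homologyMap (q : ℕ) :
    (presheafCx R).homology q ⟶ Sheaf.cohomologyPresheaf.{u} F q :=
  ((presheafCx R).homologyIsCokernel _ q rfl).desc
    (CokernelCofork.ofπ (cyclesMap R q) (toCycles_cyclesMap R q))

lemma homologyπ_homologyMap (q : ℕ) :
    (presheafCx R).homologyπ q ≫ homologyMap R q = cyclesMap R q :=
  ((presheafCx R).homologyIsCokernel _ q rfl).fac _ WalkingParallelPair.one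

/-- Cocycles of sections, elementwise. -/
lemma exists_cycle (q : ℕ) (U : C) (x : ((presheafCx R).X q).obj (op U))
    (hx : ((presheafCx R).d q (q + 1)).app (op U) x = 0) :
    ∃ z, ((presheafCx R).iCycles q).app (op U) z = x :=
  (ShortComplex.ab_exact_iff _).1
    ((ShortComplex.exact_of_f_is_kernel
      (ShortComplex.mk ((presheafCx R).iCycles q) ((presheafCx R).d q (q + 1))
        ((presheafCx R).iCycles_d q (q + 1)))
      ((presheafCx R).cyclesIsKernel q (q + 1) (by simp))).map
        ((evaluation Cᵒᵖ AddCommGrpCat.{u}).obj (op U))) x hx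

lemma bijective_homologyMap (q : ℕ) (U : C) :
    Function.Bijective ((homologyMap R q).app (op U)) := by
  have hπ : ∀ z, (homologyMap R q).app (op U) (((presheafCx R).homologyπ q).app (op U) z) =
      (cyclesMap R q).app (op U) z := fun z =>
    ConcreteCategory.congr_hom (NatTrans.congr_app (homologyπ_homologyMap R q) (op U)) z
  constructor
  · rw [injective_iff_map_eq_zero]
    intro h hh
    have hsur : Function.Surjective (((presheafCx R).homologyπ q).app (op U)) :=
      (AddCommGrpCat.epi_iff_surjective _).1 inferInstance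
    obtain ⟨z, rfl⟩ := hsur h
    rw [hπ, cyclesMap_app] at hh
    cases q with
    | zero =>
      have h0 := HomExt.eq_zero_of_extMk_eq_zero R _ _ hh
      rw [map_eq_zero_iff _ (homEquiv U (R.cocomplex.X 0)).symm.injective] at h0
      have : z = 0 := (AddCommGrpCat.mono_iff_injective _).1
        (inferInstance : Mono (((presheafCx R).iCycles 0).app (op U))) (h0.trans (map_zero _).symm)
      rw [this, map_zero]
    | succ m =>
      obtain ⟨g, hg⟩ := (R.extMk_eq_zero_iff _ (m + 2) rfl _ m rfl).1 hh
      have : z = ((presheafCx R).toCycles m (m + 1)).app (op U) (homEquiv U _ g) := by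
        apply (AddCommGrpCat.mono_iff_injective _).1
          (inferInstance : Mono (((presheafCx R).iCycles (m + 1)).app (op U)))
        rw [← ConcreteCategory.comp_apply (((presheafCx R).toCycles m (m + 1)).app (op U)),
          ← NatTrans.comp_app, HomologicalComplex.toCycles_i]
        change _ = (R.cocomplex.d m (m + 1)).hom.app (op U) (homEquiv U _ g)
        rw [← homEquiv_comp, hg, AddEquiv.apply_symm_apply]
      rw [this]
      exact ConcreteCategory.congr_hom
        (NatTrans.congr_app ((presheafCx R).toCycles_comp_homologyπ m (m + 1)) (op U)) _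
  · intro e
    obtain ⟨f, hf, rfl⟩ := R.extMk_surjective e (q + 1) rfl
    obtain ⟨z, hz⟩ := exists_cycle R q U (homEquiv U _ f) (by
      change (R.cocomplex.d q (q + 1)).hom.app (op U) _ = 0
      rw [← homEquiv_comp, hf, map_zero])
    refine ⟨((presheafCx R).homologyπ q).app (op U) z, ?_⟩
    rw [hπ, cyclesMap_app]
    congr 1
    rw [hz, AddEquiv.symm_apply_apply]

instance isIso_homologyMap (q : ℕ) : IsIso (homologyMap R q) := by
  have : ∀ U, IsIso ((homologyMap R q).app U) := fun U =>
    (ConcreteCategory.isIso_iff_bijective _).2 (bijective_homologyMap R q U.unop)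
  exact NatIso.isIso_of_isIso_app _

/-- Homology of sections is the cohomology presheaf. -/
noncomputable def homologyIso (q : ℕ) :
    (presheafCx R).homology q ≅ Sheaf.cohomologyPresheaf.{u} F q :=
  asIso (homologyMap R q)

end Groth.Agent.Lib.SiteCoh.CohPresheaf
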