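import Groth.Agent.Lib.SiteCoh.Pushforward
import Groth.Agent.Lib.EtJ.ExtZero
import Mathlib.CategoryTheory.Sites.CoverLifting
import Mathlib.CategoryTheory.Preadditive.Injective.Preserves

/-!
# Restriction to localised sites preserves injectives and total acyclicity
-/

set_option linter.style.haveILetI false

universe u

open CategoryTheory Limits Opposite Abelian

namespace Groth.Agent.Lib.SiteCoh.OverForget

open HomAcyclic FreeSheaf Kill Pushforward

section General

variable {C D : Type u} [SmallCategory C] [SmallCategory D]
  {J : GrothendieckTopology C} {K : GrothendieckTopology D} {u : D ⥤ C} [u.IsContinuous K J]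

/-- Maps from free sheaves lift along the direct image of the injective embedding. -/
lemma exists_lift_push {F : Sheaf J AddCommGrpCat.{u}} (hF : CohCx.IsTotallyAcyclic F)
    (K₀ : Sheaf K (Type u)) (s : (freeSh K).obj K₀ ⟶ (CohSite.push J K u).obj (embSES F).X₃) :
    ∃ t : (freeSh K).obj K₀ ⟶ (CohSite.push J K u).obj (embSES F).X₂,
      t ≫ (CohSite.push J K u).map (embSES F).g = s := by
  let adj := u.sheafAdjunctionContinuous AddCommGrpCat.{u} K J
  obtain ⟨r, hr⟩ := surjective_comp (embSES_shortExact F) (hF ((pullSet J K u).obj K₀) 0)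
    ((freePullIso J K u).inv.app K₀ ≫ (adj.homEquiv _ _).symm s)
  refine ⟨adj.homEquiv _ _ ((freePullIso J K u).hom.app K₀ ≫ r), ?_⟩
  refine (adj.homEquiv_naturality_right _ (embSES F).g).symm.trans
    ((congrArg (adj.homEquiv _ _) ?_).trans (Equiv.apply_symm_apply _ s))
  exact (Category.assoc _ _ _).trans ((congrArg _ hr).trans (Iso.hom_inv_id_app_assoc _ _ _))

/-- A direct image preserving injectives and short exact sequences preserves total acyclicity. -/
theorem isTotallyAcyclic_push_of_preserves [(CohSite.push J K u).PreservesInjectiveObjects]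
    [PreservesFiniteColimits (CohSite.push J K u)] [PreservesFiniteLimits (CohSite.push J K u)]
    {F : Sheaf J AddCommGrpCat.{u}} (hF : CohCx.IsTotallyAcyclic F) :
    CohCx.IsTotallyAcyclic ((CohSite.push J K u).obj F) := by
  suffices H : ∀ (p : ℕ) (F : Sheaf J AddCommGrpCat.{u}), CohCx.IsTotallyAcyclic F →
      ∀ K₀, Subsingleton (CohCx.HK K₀ ((CohSite.push J K u).obj F) (p + 1)) by
    exact fun K₀ p => H p F hF K₀
  clear hF F
  intro p
  induction p with
  | zero =>
    intro F hF K₀
    refine subsingleton_of_forall_eq 0 fun x => ?_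
    have hS := (embSES_shortExact F).map_of_exact (CohSite.push J K u)
    haveI : Injective (embSES F).X₂ := inferInstanceAs (Injective (Injective.under F))
    haveI : Injective ((embSES F).map (CohSite.push J K u)).X₂ :=
      inferInstanceAs (Injective ((CohSite.push J K u).obj (embSES F).X₂))
    obtain ⟨y, rfl⟩ := Ext.covariant_sequence_exact₁ (n₀ := 0) _ hS x (Ext.eq_zero_of_injective _) rfl
    obtain ⟨s, rfl⟩ := (Ext.mk₀_bijective _ _).2 y
    obtain ⟨t, ht⟩ : ∃ t : (freeSh K).obj K₀ ⟶ ((embSES F).map (CohSite.push J K u)).X₂,
        t ≫ ((embSES F).map (CohSite.push J K u)).g = s :=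
      exists_lift_push hF K₀ s
    subst ht
    refine Eq.trans (congrArg (fun z : Ext _ _ 0 => z.comp hS.extClass rfl)
      (Ext.mk₀_comp_mk₀ t ((embSES F).map (CohSite.push J K u)).g).symm) ?_
    rw [Ext.comp_assoc (a₁₂ := 0) (a₂₃ := 1) _ _ _ (add_zero 0)
      (zero_add 1) (by omega), ShortComplex.ShortExact.comp_extClass, Ext.comp_zero]
    rfl
  | succ p ih =>
    intro F hF K₀
    refine subsingleton_of_forall_eq 0 fun x => ?_
    have hS := (embSES_shortExact F).map_of_exact (CohSite.push J K u)
    haveI : Injective (embSES F).X₂ := inferInstanceAs (Injective (Injective.under F))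
    haveI : Injective ((embSES F).map (CohSite.push J K u)).X₂ :=
      inferInstanceAs (Injective ((CohSite.push J K u).obj (embSES F).X₂))
    obtain ⟨y, rfl⟩ := Ext.covariant_sequence_exact₁ (n₀ := p + 1) _ hS x (Ext.eq_zero_of_injective _) rfl
    have hQ := TotAcyclic.isTotallyAcyclic_X₃ (embSES_shortExact F) hF
      (TotAcyclic.isTotallyAcyclic_of_injective _)
    have : y = 0 :=
      Subsingleton.elim (h := ih _ hQ K₀) y 0
    rw [this, Ext.zero_comp]
    rfl

end General

section Over

variable {C : Type u} [SmallCategory C] (X : C)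

/-- The final discrete subcategory of costructured arrows. -/
def discreteFunctor (W : C) :
    Discrete (W ⟶ X) ⥤ CostructuredArrow (Over.forget X).op (op W) :=
  Discrete.functor fun φ => CostructuredArrow.mk (Y := op (Over.mk φ)) (𝟙 W).op

instance discreteFunctor_final (W : C) : (discreteFunctor X W).Final where
  out d := by
    let g : W ⟶ d.left.unop.left := d.hom.unop
    let φ : W ⟶ X := g ≫ d.left.unop.hom
    let k : Over.mk φ ⟶ d.left.unop := Over.homMk g rfl
    let a : d ⟶ (discreteFunctor X W).obj ⟨φ⟩ := CostructuredArrow.homMk k.op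
      (Quiver.Hom.unop_inj (Category.id_comp _))
    have key : ∀ y : StructuredArrow d (discreteFunctor X W),
        y = StructuredArrow.mk (Y := (⟨φ⟩ : Discrete (W ⟶ X))) a := by
      rintro ⟨⟨⟨⟩⟩, ⟨ψ⟩, b⟩
      have hb : b.left.unop.left = g := by
        have := congrArg (fun m => m.unop) (CostructuredArrow.w b)
        exact (Category.id_comp _).symm.trans this
      have hw : b.left.unop.left ≫ d.left.unop.hom = ψ := Over.w b.left.unop
      obtain rfl : ψ = φ := by
        rw [← hw, hb]; rfl
      obtain rfl : b = a := CostructuredArrow.hom_ext _ _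
        (Quiver.Hom.unop_inj (Over.OverMorphism.ext hb))
      rfl
    have : Nonempty (StructuredArrow d (discreteFunctor X W)) := ⟨StructuredArrow.mk a⟩
    exact zigzag_isConnected fun y z => by rw [key y, key z]

instance hasExactColimits_costructuredArrow (W : Cᵒᵖ) :
    HasExactColimitsOfShape (CostructuredArrow (Over.forget X).op W) AddCommGrpCat.{u} := by
  obtain ⟨W⟩ := W
  have : HasExactColimitsOfShape (Discrete (W ⟶ X)) AddCommGrpCat.{u} := inferInstance
  exact hasExactColimitsOfShape_of_final AddCommGrpCat.{u} (discreteFunctor X W)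

variable (J : GrothendieckTopology C)

instance pullAb_preservesFiniteLimits :
    PreservesFiniteLimits ((Over.forget X).sheafPullback AddCommGrpCat.{u} (J.over X) J) := by
  have : PreservesFiniteLimits ((Over.forget X).op.lan :
      (_ ⥤ AddCommGrpCat.{u}) ⥤ _) := EtJ.ExtZero.lan_preservesFiniteLimits_of_exact _
  have : PreservesFiniteLimits
      (Functor.sheafPullbackConstruction.sheafPullback (Over.forget X)
        AddCommGrpCat.{u} (J.over X) J) := by
    have : PreservesFiniteLimits ((Over.forget X).op.lan ⋙ presheafToSheaf J AddCommGrpCat.{u}) :=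
      comp_preservesFiniteLimits _ _
    exact comp_preservesFiniteLimits _ _
  exact preservesFiniteLimits_of_natIso
    (Functor.sheafPullbackConstruction.sheafPullbackIso (Over.forget X)
      AddCommGrpCat.{u} (J.over X) J).symm

instance restr_preservesInjectiveObjects :
    (CohSite.push J (J.over X) (Over.forget X)).PreservesInjectiveObjects :=
  have : PreservesLimitsOfShape WalkingCospan
      ((Over.forget X).sheafPullback AddCommGrpCat.{u} (J.over X) J) := inferInstance
  Functor.preservesInjectiveObjects_of_adjunction_of_preservesMonomorphisms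
    ((Over.forget X).sheafAdjunctionContinuous AddCommGrpCat.{u} (J.over X) J)

instance restr_preservesFiniteColimits :
    PreservesFiniteColimits (CohSite.push J (J.over X) (Over.forget X)) :=
  have : PreservesColimitsOfSize.{0, 0} (CohSite.push J (J.over X) (Over.forget X)) :=
    ((Over.forget X).sheafAdjunctionCocontinuous AddCommGrpCat.{u} (J.over X) J).leftAdjoint_preservesColimits
  PreservesColimitsOfSize.preservesFiniteColimits _

instance restr_preservesFiniteLimits :
    PreservesFiniteLimits (CohSite.push J (J.over X) (Over.forget X)) :=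
  have : PreservesLimitsOfSize.{0, 0} (CohSite.push J (J.over X) (Over.forget X)) :=
    ((Over.forget X).sheafAdjunctionContinuous AddCommGrpCat.{u} (J.over X) J).rightAdjoint_preservesLimits
  PreservesLimitsOfSize.preservesFiniteLimits _

/-- Restriction to a localised site preserves total acyclicity. -/
theorem isTotallyAcyclic_restr {F : Sheaf J AddCommGrpCat.{u}} (hF : CohCx.IsTotallyAcyclic F) :
    CohCx.IsTotallyAcyclic ((CohSite.push J (J.over X) (Over.forget X)).obj F) :=
  isTotallyAcyclic_push_of_preserves hF

end Over

end Groth.Agent.Lib.SiteCoh.OverForget
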