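import Groth.Agent.Lib.SiteCoh.Leray
import Groth.Agent.Lib.SiteCoh.LocExact

/-!
# Vanishing of higher direct images
-/

universe u

open CategoryTheory Limits Opposite Abelian

namespace Groth.Agent.Lib.SiteCoh.Higher

open Basic SpecSeq

variable {C : Type u} [SmallCategory C] {J : GrothendieckTopology C}

/-- A complex of sheaves which is exact on all sections is exact. -/
lemma exact_of_sections (S : ShortComplex (Sheaf J AddCommGrpCat.{u}))
    (h : ∀ (U : C) (x : S.X₂.obj.obj (op U)), S.g.hom.app (op U) x = 0 →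
      ∃ w : S.X₁.obj.obj (op U), S.f.hom.app (op U) w = x) : S.Exact := by
  have h' := LocExact.exact_map_of_locally_exact (J := J)
    (S.map (sheafToPresheaf J AddCommGrpCat.{u})) fun U x hx => by
      obtain ⟨w, hw⟩ := h U x hx
      exact ⟨⊤, J.top_mem U, fun V g _ => ⟨S.X₁.obj.map g.op w,
        (NatTrans.naturality_apply S.f.hom g.op w).trans (congrArg _ hw)⟩⟩
  exact (ShortComplex.exact_iff_of_iso
    (S.mapNatIso (sheafificationNatIso J AddCommGrpCat.{u}))).2 h'

variable {D : Type u} [SmallCategory D] {K : GrothendieckTopology D}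
  (u : D ⥤ C) [u.IsContinuous K J]

/-- `R^q u_* F` vanishes if `F` has no degree `q` cohomology over the objects `u V`. -/
theorem isZero_rpush (F : Sheaf J AddCommGrpCat.{u}) (q : ℕ)
    (h : ∀ V : D, Subsingleton (CohSite.HU F (q + 1) (u.obj V))) :
    IsZero ((CohSite.Rpush J K u (q + 1)).obj F) := by
  let R := injectiveResolution F
  refine IsZero.of_iso ?_ (R.isoRightDerivedObj (CohSite.push J K u) (q + 1))
  refine HomologicalComplex.ExactAt.isZero_homology ?_
  rw [HomologicalComplex.exactAt_iff' _ q (q + 1) (q + 2) (by simp) (by simp)]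
  refine exact_of_sections _ fun V x hx => ?_
  let f : CohCx.freeSheaf J (u.obj V) ⟶ R.cocomplex.X (q + 1) := (homEquiv (u.obj V) _).symm x
  have hf : f ≫ R.cocomplex.d (q + 1) (q + 2) = 0 := by
    refine (homEquiv_symm_comp (U := u.obj V) x _).trans ?_
    rw [show (R.cocomplex.d (q + 1) (q + 2)).hom.app (op (u.obj V)) x = 0 from hx]
    exact map_zero _
  obtain ⟨g, hg⟩ := (R.extMk_eq_zero_iff f (q + 2) rfl hf q rfl).1
    ((subsingleton_hu_iff F (q + 1) (u.obj V)).1 (h V) (R.extMk f (q + 2) rfl hf))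
  refine ⟨homEquiv (u.obj V) _ g, ?_⟩
  change (R.cocomplex.d q (q + 1)).hom.app (op (u.obj V)) (homEquiv (u.obj V) _ g) = x
  rw [← homEquiv_comp, hg]
  exact (homEquiv (u.obj V) _).apply_symm_apply x

end Groth.Agent.Lib.SiteCoh.Higher
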