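import Groth.Agent.Lib.SiteCoh.Fillers
import Groth.Agent.Lib.SiteCoh.LocExact
import Mathlib.AlgebraicTopology.AlternatingFaceMapComplex
import Mathlib.AlgebraicTopology.CechNerve
import Mathlib.Algebra.Homology.QuasiIso
import Mathlib.Algebra.Homology.SingleHomology
import Mathlib.Algebra.Homology.ShortComplex.HomologicalComplex

/-!
# Resolutions by free abelian sheaves from local fillers
-/

universe u

open CategoryTheory Limits Opposite Simplicial

namespace Groth.Agent.Lib.SiteCoh.FreeRes

open Fillers

variable {C : Type u} [SmallCategory C] {J : GrothendieckTopology C}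

/-- Sheafified free abelian sheaf on a presheaf of sets. -/
noncomputable abbrev freeP (J : GrothendieckTopology C) :
    (Cᵒᵖ ⥤ Type u) ⥤ Sheaf J AddCommGrpCat.{u} :=
  (Functor.whiskeringRight Cᵒᵖ (Type u) AddCommGrpCat.{u}).obj AddCommGrpCat.free.{u} ⋙
    presheafToSheaf J AddCommGrpCat.{u}

/-- The boundary map of free presheaves. -/
noncomputable def faceSum (A : SemiPsh C) (k : ℕ) :
    A.obj (k + 1) ⋙ AddCommGrpCat.free.{u} ⟶ A.obj k ⋙ AddCommGrpCat.free.{u} :=
  ∑ i : Fin (k + 1), (-1 : ℤ) ^ (i : ℕ) • Functor.whiskerRight (A.d k i) AddCommGrpCat.free.{u}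

lemma faceSum_app (A : SemiPsh C) (k : ℕ) (U : C)
    (z : (A.obj (k + 1) ⋙ AddCommGrpCat.free.{u}).obj (op U)) :
    (faceSum A k).app (op U) z = bd A k U z := by
  refine Eq.trans ?_ (bd_apply A k U z).symm
  unfold faceSum
  rw [NatTrans.app_sum]
  exact (congrArg (fun f : _ →+ _ => f z) (map_sum (AddCommGrpCat.homAddEquiv
    (M := (A.obj (k + 1) ⋙ AddCommGrpCat.free.{u}).obj (op U))
    (N := (A.obj k ⋙ AddCommGrpCat.free.{u}).obj (op U))) _ _)).trans
      (AddMonoidHom.finsetSum_apply _ _ z)

/-- The free complex of a presheaf with fillers is exact after sheafification. -/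
lemma exact_of_hasFillers {A : SemiPsh C} (hA : HasFillers A J) (k : ℕ)
    (h : faceSum A (k + 1) ≫ faceSum A k = 0) :
    ((ShortComplex.mk (faceSum A (k + 1)) (faceSum A k) h).map
      (presheafToSheaf J AddCommGrpCat.{u})).Exact := by
  refine LocExact.exact_map_of_locally_exact _ fun U x hx => ?_
  have hx' : bd A k U x = 0 := (faceSum_app A k U x).symm.trans hx
  obtain ⟨R, hR, hR'⟩ := exists_cover_boundary hA k x hx'
  refine ⟨R, hR, fun V g hg => ?_⟩
  obtain ⟨w, hw⟩ := hR' g hg
  exact ⟨w, (faceSum_app A (k + 1) V w).trans hw⟩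

/-- The free augmentation of a presheaf with fillers is epi after sheafification. -/
lemma epi_of_hasFillers {A : SemiPsh C} (hA : HasFillers A J) :
    Epi ((presheafToSheaf J AddCommGrpCat.{u}).map (faceSum A 0)) := by
  refine LocExact.epi_map_of_isLocallySurjective _ ⟨fun {U} s => ?_⟩
  induction s using FreeAbelianGroup.induction_on with
  | zero =>
    refine J.superset_covering ?_ (J.top_mem U)
    intro V g _
    exact ⟨0, by rw [map_zero]; exact (map_zero (((A.obj 0 ⋙ AddCommGrpCat.free.{u}).map g.op).hom)).symm⟩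
  | of x =>
    have := hA.surj
    refine J.superset_covering ?_ (Presheaf.imageSieve_mem J (A.d 0 0) (U := op U) x)
    rintro V g ⟨t, ht⟩
    refine ⟨FreeAbelianGroup.of t, ?_⟩
    refine (faceSum_app A 0 V _).trans ((bd_apply A 0 V _).trans ?_)
    simp only [Nat.reduceAdd, Finset.univ_unique, Fin.default_eq_zero, Finset.sum_singleton,
      Fin.val_zero, pow_zero, one_smul]
    exact (congrArg FreeAbelianGroup.of ht).trans (FreeAbelianGroup.map_of_apply _).symm
  | neg x hx =>
    refine J.superset_covering ?_ hx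
    rintro V g ⟨t, ht⟩
    exact ⟨-t, by rw [map_neg, ht]; exact (map_neg (((A.obj 0 ⋙ AddCommGrpCat.free.{u}).map g.op).hom) _).symm⟩
  | add x y hx hy =>
    refine J.superset_covering ?_ (J.intersection_covering hx hy)
    rintro V g ⟨⟨t, ht⟩, ⟨t', ht'⟩⟩
    exact ⟨t + t', by rw [map_add, ht, ht']; exact (map_add (((A.obj 0 ⋙ AddCommGrpCat.free.{u}).map g.op).hom) _ _).symm⟩

variable (X : SimplicialObject.Augmented (Cᵒᵖ ⥤ Type u))

/-- The objects of the semi-simplicial presheaf of an augmented simplicial presheaf. -/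
def ofAugmentedObj : ℕ → Cᵒᵖ ⥤ Type u
  | 0 => X.right
  | k + 1 => X.left _⦋k⦌

/-- The faces of the semi-simplicial presheaf of an augmented simplicial presheaf. -/
def ofAugmentedD : ∀ k, Fin (k + 1) → (ofAugmentedObj X (k + 1) ⟶ ofAugmentedObj X k)
  | 0, _ => X.hom.app (op ⦋0⦌)
  | _ + 1, i => X.left.δ i

/-- An augmented simplicial presheaf as a semi-simplicial presheaf shifted by one. -/
def ofAugmented : SemiPsh C where
  obj := ofAugmentedObj X
  d := ofAugmentedD X
  d_comp_d k i j h := by
    cases k with
    | zero =>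
      change X.left.δ _ ≫ X.hom.app _ = X.left.δ _ ≫ X.hom.app _
      rw [SimplicialObject.δ_naturality, SimplicialObject.δ_naturality]
      rfl
    | succ k => exact X.left.δ_comp_δ h

/-- The augmented simplicial sheaf of free abelian groups. -/
noncomputable abbrev freeAug : SimplicialObject.Augmented (Sheaf J AddCommGrpCat.{u}) :=
  ((SimplicialObject.Augmented.whiskering _ _).obj (freeP J)).obj X

lemma freeAug_d (n : ℕ) :
    ((AlgebraicTopology.alternatingFaceMapComplex _).obj (freeAug (J := J) X).left).d (n + 1) n =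
      (presheafToSheaf J AddCommGrpCat.{u}).map (faceSum (ofAugmented X) (n + 1)) := by
  rw [AlgebraicTopology.alternatingFaceMapComplex_obj_d, AlgebraicTopology.AlternatingFaceMapComplex.objD,
    faceSum, Functor.map_sum]
  refine Finset.sum_congr rfl fun i _ => ?_
  rw [Functor.map_zsmul]
  rfl

lemma freeAug_hom :
    (freeAug (J := J) X).hom.app (op ⦋0⦌) =
      (presheafToSheaf J AddCommGrpCat.{u}).map (faceSum (ofAugmented X) 0) := by
  simp only [faceSum, Nat.reduceAdd, Finset.univ_unique, Fin.default_eq_zero, Finset.sum_singleton,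
    Fin.val_zero, pow_zero, one_smul]
  rfl

lemma faceSum_comp_faceSum (k : ℕ) :
    faceSum (ofAugmented X) (k + 1) ≫ faceSum (ofAugmented X) k = 0 := by
  let Y : SimplicialObject.Augmented (Cᵒᵖ ⥤ AddCommGrpCat.{u}) :=
    ((SimplicialObject.Augmented.whiskering _ _).obj
      ((Functor.whiskeringRight Cᵒᵖ (Type u) AddCommGrpCat.{u}).obj AddCommGrpCat.free.{u})).obj X
  cases k with
  | zero =>
    have h1 : faceSum (ofAugmented X) 1 = Y.left.δ 0 - Y.left.δ 1 := by
      simp only [faceSum, Nat.reduceAdd, Fin.sum_univ_two, Fin.val_zero, Fin.val_one, pow_zero,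
        one_smul, pow_one, neg_smul, ← sub_eq_add_neg]
      rfl
    have h0 : faceSum (ofAugmented X) 0 = Y.hom.app (op ⦋0⦌) := by
      simp only [faceSum, Nat.reduceAdd, Finset.univ_unique, Fin.default_eq_zero,
        Finset.sum_singleton, Fin.val_zero, pow_zero, one_smul]
      rfl
    rw [h1, h0]
    refine (Preadditive.sub_comp _ _ _).trans (sub_eq_zero.2 ?_)
    exact (SimplicialObject.δ_naturality Y.hom 0).trans (SimplicialObject.δ_naturality Y.hom 1).symm
  | succ k =>
    exact AlgebraicTopology.AlternatingFaceMapComplex.d_squared Y.left k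

variable {X}

/-- The free augmented complex of an augmented simplicial presheaf with fillers is a resolution. -/
theorem quasiIso_ε (hX : HasFillers (ofAugmented X) J) :
    QuasiIso ((AlgebraicTopology.AlternatingFaceMapComplex.ε
      (C := Sheaf J AddCommGrpCat.{u})).app (freeAug X)) := by
  let K := (AlgebraicTopology.alternatingFaceMapComplex _).obj (freeAug (J := J) X).left
  rw [quasiIso_iff]
  intro i
  cases i with
  | zero =>
    rw [ChainComplex.quasiIsoAt₀_iff, ShortComplex.quasiIso_iff_of_zeros']
    · constructor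
      · refine (ShortComplex.exact_iff_of_iso ?_).1
          (exact_of_hasFillers hX 0 (faceSum_comp_faceSum X 0))
        refine ShortComplex.isoMk (Iso.refl _) (Iso.refl _) (Iso.refl _) ?_ ?_
        · simpa using! freeAug_d X 0
        · simp [← freeAug_hom]
          rfl
      · have := epi_of_hasFillers hX
        rw [← freeAug_hom] at this
        simpa using! this
    all_goals first | rfl | simp
  | succ n =>
    rw [quasiIsoAt_iff_exactAt' _ _ (ChainComplex.exactAt_succ_single_obj _ _)]
    change K.ExactAt (n + 1)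
    rw [HomologicalComplex.exactAt_iff' K (n + 2) (n + 1) n (by simp) (by simp)]
    refine (ShortComplex.exact_iff_of_iso ?_).1
      (exact_of_hasFillers hX (n + 1) (faceSum_comp_faceSum X (n + 1)))
    refine ShortComplex.isoMk (Iso.refl _) (Iso.refl _) (Iso.refl _) ?_ ?_
    · exact (Category.id_comp _).trans ((freeAug_d X (n + 1)).trans (Category.comp_id _).symm)
    · exact (Category.id_comp _).trans ((freeAug_d X n).trans (Category.comp_id _).symm)

/-- Vertices of a simplex. -/
abbrev vertex {k : ℕ} {U : C} (x : (X.left _⦋k⦌).obj (op U)) (a : Fin (k + 1)) :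
    (X.left _⦋0⦌).obj (op U) :=
  (X.left.map (SimplexCategory.const ⦋0⦌ ⦋k⦌ a).op).app (op U) x

/-- The simplices are exactly the tuples of vertices with a common base. -/
structure IsCechLike (X : SimplicialObject.Augmented (Cᵒᵖ ⥤ Type u)) : Prop where
  ext : ∀ {k : ℕ} {U : C} (x x' : (X.left _⦋k⦌).obj (op U)),
    (∀ a, vertex (X := X) x a = vertex x' a) → x = x'
  lift : ∀ {k : ℕ} {U : C} (b : X.right.obj (op U)) (t : Fin (k + 1) → (X.left _⦋0⦌).obj (op U)),
    (∀ a, (X.hom.app (op ⦋0⦌)).app (op U) (t a) = b) → ∃ x, ∀ a, vertex (X := X) x a = t a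

lemma vertex_δ {k : ℕ} {U : C} (x : (X.left _⦋k + 1⦌).obj (op U)) (i : Fin (k + 2))
    (a : Fin (k + 1)) :
    vertex ((X.left.δ i).app (op U) x) a = vertex (X := X) x (i.succAbove a) := by
  dsimp only [vertex, SimplicialObject.δ]
  rw [← ConcreteCategory.comp_apply, ← NatTrans.comp_app, ← Functor.map_comp, ← op_comp,
    SimplexCategory.const_comp]
  rfl

lemma vertex_self {U : C} (x : (X.left _⦋0⦌).obj (op U)) (a : Fin 1) : vertex (X := X) x a = x := by
  have h : SimplexCategory.const ⦋0⦌ ⦋0⦌ a = 𝟙 ⦋0⦌ := by
    apply SimplexCategory.Hom.ext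
    ext b
    exact congrArg Fin.val ((Fin.eq_zero a).trans (Fin.eq_zero b).symm)
  dsimp only [vertex]
  rw [h, op_id, X.left.map_id]
  rfl

lemma hom_vertex {k : ℕ} {U : C} (x : (X.left _⦋k⦌).obj (op U)) (a : Fin (k + 1)) :
    (X.hom.app (op ⦋0⦌)).app (op U) (vertex (X := X) x a) = (X.hom.app (op ⦋k⦌)).app (op U) x := by
  dsimp only [vertex]
  rw [← ConcreteCategory.comp_apply, ← NatTrans.comp_app]
  exact ConcreteCategory.congr_hom (NatTrans.congr_app
    (X.hom.naturality (SimplexCategory.const ⦋0⦌ ⦋k⦌ a).op) (op U)) x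

/-- Cech-like augmented simplicial presheaves have fillers. -/
theorem IsCechLike.hasFillers (h : IsCechLike X)
    (hs : Presheaf.IsLocallySurjective J (X.hom.app (op ⦋0⦌))) :
    HasFillers (ofAugmented X) J := by
  suffices H : ∀ (k : ℕ) (U : C) (y : Fin (k + 2) → (X.left _⦋k⦌).obj (op U)),
      Matching (ofAugmented X) y → ∃ x, ∀ i, (X.left.δ i).app (op U) x = y i by
    refine ⟨hs, fun {k U} y hy => J.superset_covering ?_ (J.top_mem U)⟩
    intro V g _
    obtain ⟨x, hx⟩ := H k U y hy
    exact ⟨res (A := ofAugmented X) g x, fun i => (face_res (A := ofAugmented X) g i x).trans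
      (congrArg (res (A := ofAugmented X) g) (hx i))⟩
  intro k
  intro U y hy
  let base : (X.left _⦋k⦌).obj (op U) → X.right.obj (op U) := (X.hom.app (op ⦋k⦌)).app (op U)
  have hb : ∀ i, base (y i) = base (y 0) := by
    intro i
    induction i using Fin.cases with
    | zero => rfl
    | succ j =>
      cases k with
      | zero =>
        have := hy 0 j (Fin.zero_le _)
        obtain rfl : j = 0 := Fin.eq_zero j
        exact this
      | succ k =>
        have := hy 0 j (Fin.zero_le _)
        have e : ∀ (l : Fin (k + 2)) (z : (X.left _⦋k + 1⦌).obj (op U)),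
            (X.hom.app (op ⦋k⦌)).app (op U) ((X.left.δ l).app (op U) z) =
              (X.hom.app (op ⦋k + 1⦌)).app (op U) z := fun l z => by
          rw [← ConcreteCategory.comp_apply, ← NatTrans.comp_app, SimplicialObject.δ_naturality]
          rfl
        exact (e 0 _).symm.trans ((congrArg _ this).trans (e j _))
  let t : Fin (k + 2) → (X.left _⦋0⦌).obj (op U) :=
    Fin.cons (vertex (X := X) (y (Fin.succ 0)) 0) fun a => vertex (X := X) (y 0) a
  obtain ⟨x, hx⟩ := h.lift (base (y 0)) t (fun a => by
    induction a using Fin.cases with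
    | zero => simp only [t, Fin.cons_zero]; rw [hom_vertex]; exact hb _
    | succ a => simp only [t, Fin.cons_succ]; rw [hom_vertex])
  refine ⟨x, fun i => h.ext _ _ fun a => ?_⟩
  rw [vertex_δ, hx]
  induction i using Fin.cases with
  | zero => simp only [Fin.succAbove_zero, t, Fin.cons_succ]
  | succ i =>
    cases k with
    | zero =>
      obtain rfl : a = 0 := Fin.eq_zero a
      obtain rfl : i = 0 := Fin.eq_zero i
      rfl
    | succ k =>
      induction a using Fin.cases with
      | zero =>
        simp only [Fin.succ_succAbove_zero, t, Fin.cons_zero]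
        induction i using Fin.cases with
        | zero => rfl
        | succ l =>
          have e : vertex (X := X) ((X.left.δ 1).app (op U) (y l.succ.succ)) 0 =
              vertex (X := X) ((X.left.δ l.succ).app (op U) (y 1)) 0 :=
            congrArg (fun z => vertex (X := X) z 0)
              (hy 1 l.succ (Fin.one_le_of_ne_zero (Fin.succ_ne_zero l)))
          rw [vertex_δ, vertex_δ] at e
          simpa [Fin.one_succAbove_zero, Fin.succ_succAbove_zero] using e.symm
      | succ a =>
        simp only [Fin.succ_succAbove_succ, t, Fin.cons_succ]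
        have e : vertex (X := X) ((X.left.δ 0).app (op U) (y i.succ)) a =
            vertex (X := X) ((X.left.δ i).app (op U) (y 0)) a :=
          congrArg (fun z => vertex (X := X) z a) (hy 0 i (Fin.zero_le _))
        rw [vertex_δ, vertex_δ] at e
        simpa [Fin.succAbove_zero] using e.symm

end Groth.Agent.Lib.SiteCoh.FreeRes
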