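import Groth.Agent.Lib.SiteCoh.FreeRes
import Mathlib.CategoryTheory.Sites.Limits
import Mathlib.CategoryTheory.Sites.Types
import Mathlib.CategoryTheory.Sites.PreservesSheafification

/-!
# The free resolution attached to the Cech nerve of an epimorphism of sheaves of sets
-/

universe u

open CategoryTheory Limits Opposite Simplicial

namespace Groth.Agent.Lib.SiteCoh.NerveRes

open FreeRes Fillers

variable {C : Type u} [SmallCategory C] {J : GrothendieckTopology C}

/-- Sections of a sheaf of sets as morphisms out of a sheafified representable. -/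
noncomputable def secEquiv (U : C) (P : Sheaf J (Type u)) :
    ((presheafToSheaf J (Type u)).obj (yoneda.obj U) ⟶ P) ≃ P.obj.obj (op U) :=
  ((sheafificationAdjunction J (Type u)).homEquiv _ P).trans yonedaEquiv

lemma secEquiv_comp {U : C} {P Q : Sheaf J (Type u)}
    (a : (presheafToSheaf J (Type u)).obj (yoneda.obj U) ⟶ P) (φ : P ⟶ Q) :
    secEquiv U Q (a ≫ φ) = φ.hom.app (op U) (secEquiv U P a) := by
  rfl

variable {K' K : Sheaf J (Type u)} (f : K' ⟶ K)

/-- The augmented Cech nerve as an augmented simplicial presheaf. -/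
noncomputable abbrev nervePsh : SimplicialObject.Augmented (Cᵒᵖ ⥤ Type u) :=
  ((SimplicialObject.Augmented.whiskering _ _).obj (sheafToPresheaf J (Type u))).obj
    (Arrow.mk f).augmentedCechNerve

variable {k : ℕ} {U : C}

/-- The projection to a factor, on sections. -/
noncomputable abbrev projAt (a : Fin (k + 1))
    (x : ((nervePsh f).left _⦋k⦌).obj (op U)) : K'.obj.obj (op U) :=
  (WidePullback.π (fun _ : Fin (k + 1) => (Arrow.mk f).hom) a).hom.app (op U) x

lemma nerve_ext (x y : ((nervePsh f).left _⦋k⦌).obj (op U))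
    (h : ∀ a, projAt f a x = projAt f a y) : x = y := by
  let e := secEquiv U ((Arrow.mk f).cechNerve.obj (op ⦋k⦌))
  obtain ⟨a, rfl⟩ := e.surjective x
  obtain ⟨b, rfl⟩ := e.surjective y
  refine congrArg e (WidePullback.hom_ext _ _ _ (fun i => ?_) ?_)
  · apply (secEquiv U K').injective
    exact h i
  · rw [← WidePullback.π_arrow _ (0 : Fin (k + 1)), ← Category.assoc, ← Category.assoc]
    congr 1
    apply (secEquiv U K').injective
    exact h 0

lemma nerve_lift (b : K.obj.obj (op U)) (t : Fin (k + 1) → K'.obj.obj (op U))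
    (h : ∀ a, f.hom.app (op U) (t a) = b) :
    ∃ x : ((nervePsh f).left _⦋k⦌).obj (op U), ∀ a, projAt f a x = t a := by
  let l : (presheafToSheaf J (Type u)).obj (yoneda.obj U) ⟶ (Arrow.mk f).cechNerve.obj (op ⦋k⦌) :=
    WidePullback.lift ((secEquiv U K).symm b) (fun a => (secEquiv U K').symm (t a)) (fun a => by
      apply (secEquiv U K).injective
      refine (secEquiv_comp _ _).trans ?_
      exact ((congrArg (f.hom.app (op U)) (Equiv.apply_symm_apply _ _)).trans (h a)).trans
        ((secEquiv U K).apply_symm_apply b).symm)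
  refine ⟨secEquiv U _ l, fun a => ?_⟩
  refine (secEquiv_comp l (WidePullback.π (fun _ : Fin (k + 1) => (Arrow.mk f).hom) a)).symm.trans ?_
  exact (congrArg (secEquiv U K') (WidePullback.lift_π _ _ _ _ a)).trans (Equiv.apply_symm_apply _ _)

lemma projAt_vertex (x : ((nervePsh f).left _⦋k⦌).obj (op U)) (a : Fin (k + 1)) :
    projAt f 0 (vertex (X := nervePsh f) x a) = projAt f a x := by
  have e : (Arrow.mk f).cechNerve.map (SimplexCategory.const ⦋0⦌ ⦋k⦌ a).op ≫
      WidePullback.π (fun _ : Fin 1 => (Arrow.mk f).hom) 0 =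
      WidePullback.π (fun _ : Fin (k + 1) => (Arrow.mk f).hom) a :=
    WidePullback.lift_π _ _ _ _ _
  exact ConcreteCategory.congr_hom
    (NatTrans.congr_app ((sheafToPresheaf J (Type u)).congr_map e) (op U)) x

lemma hom_projAt (x : ((nervePsh f).left _⦋k⦌).obj (op U)) (a : Fin (k + 1)) :
    f.hom.app (op U) (projAt f a x) = ((nervePsh f).hom.app (op ⦋k⦌)).app (op U) x :=
  ConcreteCategory.congr_hom
    (NatTrans.congr_app ((sheafToPresheaf J (Type u)).congr_map
      (WidePullback.π_arrow (fun _ : Fin (k + 1) => (Arrow.mk f).hom) a)) (op U)) x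

lemma isCechLike : IsCechLike (nervePsh f) where
  ext x x' h := nerve_ext f x x' fun a => by rw [← projAt_vertex, h, projAt_vertex]
  lift {k U} b t h := by
    obtain ⟨x, hx⟩ := nerve_lift f b (fun a => projAt f 0 (t a))
      (fun a => (hom_projAt f _ _).trans (h a))
    refine ⟨x, fun a => nerve_ext f _ _ fun i => ?_⟩
    obtain rfl : i = 0 := Fin.eq_zero i
    rw [projAt_vertex, hx]

lemma hom_isLocallySurjective [Epi f] :
    Presheaf.IsLocallySurjective J ((nervePsh f).hom.app (op ⦋0⦌)) := by
  have : Sheaf.IsLocallySurjective f := (Sheaf.isLocallySurjective_iff_epi f).2 inferInstance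
  refine ⟨fun {U} s => J.superset_covering ?_ (Presheaf.imageSieve_mem J f.hom (U := op U) s)⟩
  rintro V g ⟨t, ht⟩
  obtain ⟨x, hx⟩ := nerve_lift f (K.obj.map g.op s) (fun _ : Fin 1 => t) (fun _ => ht)
  exact ⟨x, by rw [← hom_projAt f x 0, hx]; exact ht⟩

/-- The fillers of the Cech nerve of an epimorphism. -/
theorem hasFillers [Epi f] : HasFillers (ofAugmented (nervePsh f)) J :=
  (isCechLike f).hasFillers (hom_isLocallySurjective f)

/-- Free sheaves of the nerve are computed on presheaves. -/
noncomputable def freeAugIso :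
    ((SimplicialObject.Augmented.whiskering _ _).obj
        (Sheaf.composeAndSheafify J AddCommGrpCat.free.{u})).obj (Arrow.mk f).augmentedCechNerve ≅
      freeAug (nervePsh f) :=
  Comma.isoMk (Iso.refl _) (Iso.refl _) (by
    ext1 Δ
    change 𝟙 _ ≫ (presheafToSheaf J AddCommGrpCat.{u}).map (Functor.whiskerRight
        ((((Arrow.mk f).augmentedCechNerve.hom.app Δ).hom ≫ 𝟙 _)) AddCommGrpCat.free.{u}) ≫ 𝟙 _ =
      ((presheafToSheaf J AddCommGrpCat.{u}).map (Functor.whiskerRight
        ((Arrow.mk f).augmentedCechNerve.hom.app Δ).hom AddCommGrpCat.free.{u}) ≫ 𝟙 _) ≫ 𝟙 _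
    simp only [Category.id_comp, Category.comp_id])

/-- The free resolution of the Cech nerve of an epimorphism. -/
theorem quasiIso_nerve [Epi f] :
    QuasiIso ((AlgebraicTopology.AlternatingFaceMapComplex.ε (C := Sheaf J AddCommGrpCat.{u})).app
      (((SimplicialObject.Augmented.whiskering _ _).obj
        (Sheaf.composeAndSheafify J AddCommGrpCat.free.{u})).obj (Arrow.mk f).augmentedCechNerve)) := by
  have := quasiIso_ε (hasFillers f)
  exact quasiIso_of_arrow_mk_iso (φ := (AlgebraicTopology.AlternatingFaceMapComplex.ε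
      (C := Sheaf J AddCommGrpCat.{u})).app (freeAug (nervePsh f))) (hφ := this) _ (Arrow.isoMk
    ((SimplicialObject.Augmented.drop ⋙ AlgebraicTopology.alternatingFaceMapComplex _).mapIso (freeAugIso f).symm)
    ((SimplicialObject.Augmented.point ⋙ ChainComplex.single₀ _).mapIso (freeAugIso f).symm)
    ((AlgebraicTopology.AlternatingFaceMapComplex.ε (C := Sheaf J AddCommGrpCat.{u})).naturality
      (freeAugIso f).inv))

end Groth.Agent.Lib.SiteCoh.NerveRes
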