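import Groth.Prelude.Def_CohCx
import Mathlib.Algebra.Homology.DerivedCategory.Ext.ExactSequences
import Mathlib.Algebra.Homology.DerivedCategory.Ext.EnoughInjectives
import Mathlib.CategoryTheory.Sites.EpiMono
import Mathlib.CategoryTheory.Abelian.GrothendieckCategory.EnoughInjectives

/-!
# Abelian sheaves on a small site: the free sheaf on a representable and its Ext groups

* `homEquiv U F : (CohCx.freeSheaf J U ⟶ F) ≃+ F(U)`, natural in both variables;
* `hu0Equiv U F : CohSite.HU F 0 U ≃+ F(U)`, natural in both variables;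
-/

universe u

open CategoryTheory Limits Opposite Abelian

namespace Groth.Agent.Lib.SiteCoh.Basic

variable {C : Type u} [SmallCategory C] {J : GrothendieckTopology C}

/-- The tautological section of the free sheaf on `U` over `U`. -/
noncomputable def gen (J : GrothendieckTopology C) (U : C) :
    ((CohCx.freeSheaf J U).obj.obj (op U) : AddCommGrpCat.{u}) :=
  (toSheafify J (yoneda.obj U ⋙ AddCommGrpCat.free.{u})).app (op U) (FreeAbelianGroup.of (𝟙 U))

/-- Maps of presheaves out of the free presheaf on a representable. -/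
noncomputable def freePshHomEquiv (U : C) (P : Cᵒᵖ ⥤ AddCommGrpCat.{u}) :
    (yoneda.obj U ⋙ AddCommGrpCat.free.{u} ⟶ P) ≃ P.obj (op U) :=
  ((AddCommGrpCat.adj.whiskerRight Cᵒᵖ).homEquiv (yoneda.obj U) P).trans yonedaEquiv

lemma freePshHomEquiv_apply (U : C) (P : Cᵒᵖ ⥤ AddCommGrpCat.{u})
    (f : yoneda.obj U ⋙ AddCommGrpCat.free.{u} ⟶ P) :
    freePshHomEquiv U P f = f.app (op U) (FreeAbelianGroup.of (𝟙 U)) := by
  rfl

/-- Maps out of the free sheaf on `U` are sections over `U` (as a bijection). -/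
noncomputable def homEquiv' (U : C) (F : Sheaf J AddCommGrpCat.{u}) :
    (CohCx.freeSheaf J U ⟶ F) ≃ F.obj.obj (op U) :=
  ((sheafificationAdjunction J AddCommGrpCat.{u}).homEquiv _ F).trans (freePshHomEquiv U F.obj)

lemma homEquiv'_apply (U : C) (F : Sheaf J AddCommGrpCat.{u}) (f : CohCx.freeSheaf J U ⟶ F) :
    homEquiv' U F f = f.hom.app (op U) (gen J U) := by
  rfl

/-- Maps out of the free sheaf on `U` are sections over `U`. -/
noncomputable def homEquiv (U : C) (F : Sheaf J AddCommGrpCat.{u}) :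
    (CohCx.freeSheaf J U ⟶ F) ≃+ F.obj.obj (op U) :=
  AddEquiv.mk' (homEquiv' U F) (fun f g => by simp [homEquiv'_apply])

lemma homEquiv_apply (U : C) (F : Sheaf J AddCommGrpCat.{u}) (f : CohCx.freeSheaf J U ⟶ F) :
    homEquiv U F f = f.hom.app (op U) (gen J U) :=
  homEquiv'_apply U F f

lemma homEquiv_comp {U : C} {F G : Sheaf J AddCommGrpCat.{u}} (f : CohCx.freeSheaf J U ⟶ F)
    (φ : F ⟶ G) : homEquiv U G (f ≫ φ) = φ.hom.app (op U) (homEquiv U F f) := by
  simp [homEquiv_apply]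

lemma homEquiv_symm_comp {U : C} {F G : Sheaf J AddCommGrpCat.{u}} (s : F.obj.obj (op U))
    (φ : F ⟶ G) : (homEquiv U F).symm s ≫ φ = (homEquiv U G).symm (φ.hom.app (op U) s) := by
  apply (homEquiv U G).injective
  simp [homEquiv_comp]

lemma homEquiv'_naturality_left {U V : C} (g : V ⟶ U) (F : Sheaf J AddCommGrpCat.{u})
    (f : CohCx.freeSheaf J U ⟶ F) :
    homEquiv V F (CohCx.freeSheafMap J g ≫ f) = F.obj.map g.op (homEquiv U F f) := by
  change freePshHomEquiv V F.obj
      ((sheafificationAdjunction J AddCommGrpCat.{u}).homEquiv _ F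
        ((presheafToSheaf J AddCommGrpCat.{u}).map _ ≫ f)) =
    F.obj.map g.op (freePshHomEquiv U F.obj
      ((sheafificationAdjunction J AddCommGrpCat.{u}).homEquiv _ F f))
  rw [Adjunction.homEquiv_naturality_left]
  set e := (sheafificationAdjunction J AddCommGrpCat.{u}).homEquiv _ F f
  refine Eq.trans ?_ (NatTrans.naturality_apply e g.op (FreeAbelianGroup.of (𝟙 U)))
  exact congrArg (fun k : V ⟶ U => e.app (op V) (FreeAbelianGroup.of k))
    ((Category.id_comp g).trans (Category.comp_id g).symm)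

/-- Cohomology over `U` is Ext out of the free sheaf on `U`. -/
noncomputable def huEquiv (F : Sheaf J AddCommGrpCat.{u}) (n : ℕ) (U : C) :
    CohSite.HU F n U ≃+ Ext (CohCx.freeSheaf J U) F n :=
  AddEquiv.refl _

lemma huEquiv_res (F : Sheaf J AddCommGrpCat.{u}) (n : ℕ) {U V : C} (g : V ⟶ U)
    (x : CohSite.HU F n U) :
    huEquiv F n V (CohSite.res F n g x) =
      (Ext.mk₀ (CohCx.freeSheafMap J g)).comp (huEquiv F n U x) (zero_add n) := by
  rfl

lemma subsingleton_hu_iff (F : Sheaf J AddCommGrpCat.{u}) (n : ℕ) (U : C) :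
    Subsingleton (CohSite.HU F n U) ↔ ∀ x : Ext (CohCx.freeSheaf J U) F n, x = 0 :=
  ⟨fun h x => @Subsingleton.elim _ h _ _, fun h => subsingleton_of_forall_eq 0 h⟩

/-- Ext in degree zero out of the free sheaf on `U` is the group of sections over `U`. -/
noncomputable def ext0Equiv (F : Sheaf J AddCommGrpCat.{u}) (U : C) :
    Ext (CohCx.freeSheaf J U) F 0 ≃+ F.obj.obj (op U) :=
  AddEquiv.trans Ext.addEquiv₀ (homEquiv U F)

lemma ext0Equiv_symm_apply (F : Sheaf J AddCommGrpCat.{u}) (U : C) (s : F.obj.obj (op U)) :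
    (ext0Equiv F U).symm s = Ext.mk₀ ((homEquiv U F).symm s) := rfl

lemma ext0Equiv_mk₀ (F : Sheaf J AddCommGrpCat.{u}) (U : C) (f : CohCx.freeSheaf J U ⟶ F) :
    ext0Equiv F U (Ext.mk₀ f) = homEquiv U F f := by
  apply (ext0Equiv F U).symm.injective
  rw [AddEquiv.symm_apply_apply, ext0Equiv_symm_apply, AddEquiv.symm_apply_apply]

lemma ext0Equiv_comp_mk₀ {F G : Sheaf J AddCommGrpCat.{u}} (φ : F ⟶ G) (U : C)
    (x : Ext (CohCx.freeSheaf J U) F 0) :
    ext0Equiv G U (x.comp (Ext.mk₀ φ) (add_zero 0)) = φ.hom.app (op U) (ext0Equiv F U x) := by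
  obtain ⟨f, rfl⟩ := (Ext.mk₀_bijective _ _).2 x
  rw [Ext.mk₀_comp_mk₀, ext0Equiv_mk₀, ext0Equiv_mk₀, homEquiv_comp]

lemma ext0Equiv_mk₀_comp (F : Sheaf J AddCommGrpCat.{u}) {U V : C} (g : V ⟶ U)
    (x : Ext (CohCx.freeSheaf J U) F 0) :
    ext0Equiv F V ((Ext.mk₀ (CohCx.freeSheafMap J g)).comp x (zero_add 0)) =
      F.obj.map g.op (ext0Equiv F U x) := by
  obtain ⟨f, rfl⟩ := (Ext.mk₀_bijective _ _).2 x
  rw [Ext.mk₀_comp_mk₀, ext0Equiv_mk₀, ext0Equiv_mk₀, homEquiv'_naturality_left]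

/-- A positive degree class is the boundary of a section along any monomorphism to an injective. -/
lemma exists_eq_comp_extClass_of_injective {F : Sheaf J AddCommGrpCat.{u}}
    {S : ShortComplex (Sheaf J AddCommGrpCat.{u})} (hS : S.ShortExact) [Injective S.X₂]
    (e : F ≅ S.X₁) {X : Sheaf J AddCommGrpCat.{u}} {n : ℕ} (x : Ext X F (n + 1)) :
    ∃ y : Ext X S.X₃ n,
      (y.comp hS.extClass rfl).comp (Ext.mk₀ e.inv) (add_zero (n + 1)) = x := by
  obtain ⟨y, hy⟩ := Ext.covariant_sequence_exact₁ X hS (x.comp (Ext.mk₀ e.hom) (add_zero _))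
    (Ext.eq_zero_of_injective _) rfl
  exact ⟨y, by rw [hy]; simp⟩

end Groth.Agent.Lib.SiteCoh.Basic
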