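import Mathlib.Algebra.Homology.DerivedCategory.Ext.ExactSequences
import Mathlib.Algebra.Homology.DerivedCategory.Ext.EnoughInjectives
import Mathlib.Algebra.Homology.ShortComplex.ExactFunctor
import Mathlib.Algebra.Homology.HomologicalComplex
import Mathlib.Algebra.Homology.Single
import Mathlib.Algebra.Homology.SingleHomology
import Mathlib.Algebra.Homology.QuasiIso
import Mathlib.CategoryTheory.Abelian.Exact
import Mathlib.CategoryTheory.Preadditive.Injective.Basic

/-!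
# Acyclicity of `Hom` out of a chain complex

`HomAcyclic P F`: every positive degree cocycle of `n ↦ Hom(P n, F)` is a coboundary.
-/

universe w v u

open CategoryTheory Limits Abelian

namespace Groth.Agent.Lib.SiteCoh.HomAcyclic

variable {A : Type u} [Category.{v} A] [Abelian A]

/-- The cochain complex `n ↦ Hom(P n, F)` is exact in degree `q + 1`. -/
def ExactHom (P : ChainComplex A ℕ) (F : A) (q : ℕ) : Prop :=
  ∀ x : P.X (q + 1) ⟶ F, P.d (q + 2) (q + 1) ≫ x = 0 → ∃ y : P.X q ⟶ F, P.d (q + 1) q ≫ y = x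

lemma exactHom_of_injective (P : ChainComplex A ℕ) (I : A) [Injective I] (q : ℕ)
    (hP : P.ExactAt (q + 1)) : ExactHom P I q := by
  intro x hx
  rw [HomologicalComplex.exactAt_iff' P (q + 2) (q + 1) q (by simp) (by simp)] at hP
  exact ⟨hP.descToInjective x hx, hP.comp_descToInjective x hx⟩

/-- An augmented complex resolving its target. -/
structure IsResolution (P : ChainComplex A ℕ) {B : A} (ε : P.X 0 ⟶ B) : Prop where
  exactAt : ∀ q, P.ExactAt (q + 1)
  w : P.d 1 0 ≫ ε = 0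
  exact₀ : (ShortComplex.mk (P.d 1 0) ε w).Exact
  epi : Epi ε

/-- A degree zero cocycle factors through the augmentation. -/
lemma IsResolution.exists_desc {P : ChainComplex A ℕ} {B : A} {ε : P.X 0 ⟶ B}
    (h : IsResolution P ε) {F : A} (x : P.X 0 ⟶ F) (hx : P.d 1 0 ≫ x = 0) :
    ∃ y : B ⟶ F, ε ≫ y = x := by
  have := h.epi
  have : Epi (ShortComplex.mk (P.d 1 0) ε h.w).g := this
  exact ⟨h.exact₀.desc x hx, h.exact₀.g_desc x hx⟩

lemma isResolution_of_quasiIso {P : ChainComplex A ℕ} {B : A}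
    (π : P ⟶ (ChainComplex.single₀ A).obj B) [QuasiIso π] :
    IsResolution P (π.f 0) where
  exactAt q := by
    rw [← quasiIsoAt_iff_exactAt' π (q + 1) (ChainComplex.exactAt_succ_single_obj _ _)]
    infer_instance
  w := (π.comm 1 0).symm.trans (by rw [HomologicalComplex.single_obj_d, comp_zero])
  exact₀ := by
    have h := (inferInstance : QuasiIsoAt π 0)
    rw [ChainComplex.quasiIsoAt₀_iff, ShortComplex.quasiIso_iff_of_zeros' _
      (P.shape 0 0 (by simp)) (by first | rfl | simp) (by first | rfl | simp)] at h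
    exact h.1
  epi := by
    have h := (inferInstance : QuasiIsoAt π 0)
    rw [ChainComplex.quasiIsoAt₀_iff, ShortComplex.quasiIso_iff_of_zeros' _
      (P.shape 0 0 (by simp)) (by first | rfl | simp) (by first | rfl | simp)] at h
    exact h.2

variable [HasExt.{w} A] {S : ShortComplex A}

omit [HasExt.{w} A] in
/-- Maps killed by `g` factor through `f`. -/
lemma exists_lift (hS : S.ShortExact) {X : A} (x : X ⟶ S.X₂) (hx : x ≫ S.g = 0) :
    ∃ y : X ⟶ S.X₁, y ≫ S.f = x :=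
  have := hS.mono_f
  ⟨hS.exact.lift x hx, hS.exact.lift_f x hx⟩

/-- Lifting of maps out of an object with vanishing `Ext¹`. -/
lemma surjective_comp (hS : S.ShortExact) {X : A} (h : Subsingleton (Ext X S.X₁ 1))
    (x : X ⟶ S.X₃) : ∃ y : X ⟶ S.X₂, y ≫ S.g = x := by
  obtain ⟨t, ht⟩ := Ext.covariant_sequence_exact₃ X hS (Ext.mk₀ x) (zero_add 1) (Subsingleton.elim _ _)
  obtain ⟨y, rfl⟩ := (Ext.mk₀_bijective _ _).2 t
  exact ⟨y, (Ext.mk₀_bijective _ _).1 (by rw [← ht, Ext.mk₀_comp_mk₀])⟩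

variable {P : ChainComplex A ℕ}

omit [HasExt.{w} A] in
/-- Dimension shifting, downwards. -/
lemma exactHom_X₁_succ (hS : S.ShortExact) (q : ℕ)
    (hsurj : ∀ x : P.X q ⟶ S.X₃, ∃ y : P.X q ⟶ S.X₂, y ≫ S.g = x)
    (h2 : ExactHom P S.X₂ (q + 1)) (h3 : ExactHom P S.X₃ q) : ExactHom P S.X₁ (q + 1) := by
  have := hS.mono_f
  intro x hx
  obtain ⟨y, hy⟩ := h2 (x ≫ S.f) (by rw [← Category.assoc, hx, zero_comp])
  obtain ⟨z, hz⟩ := h3 (y ≫ S.g) (by
    rw [← Category.assoc, hy, Category.assoc, S.zero, comp_zero])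
  obtain ⟨z', rfl⟩ := hsurj z
  obtain ⟨w, hw⟩ := exists_lift hS (y - P.d (q + 1) q ≫ z') (by
    rw [Preadditive.sub_comp, Category.assoc, hz, sub_self])
  exact ⟨w, by rw [← cancel_mono S.f, Category.assoc, hw, Preadditive.comp_sub,
    P.d_comp_d_assoc, zero_comp, sub_zero, hy]⟩

omit [HasExt.{w} A] in
/-- Dimension shifting at the bottom. -/
lemma exactHom_X₁_zero (hS : S.ShortExact) {B : A} {ε : P.X 0 ⟶ B} (hP : IsResolution P ε)
    (hsurj : ∀ x : B ⟶ S.X₃, ∃ y : B ⟶ S.X₂, y ≫ S.g = x)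
    (h2 : ExactHom P S.X₂ 0) : ExactHom P S.X₁ 0 := by
  have := hS.mono_f
  intro x hx
  obtain ⟨y, hy⟩ := h2 (x ≫ S.f) (by rw [← Category.assoc, hx, zero_comp])
  obtain ⟨z, hz⟩ := hP.exists_desc (y ≫ S.g) (by
    rw [← Category.assoc, hy, Category.assoc, S.zero, comp_zero])
  obtain ⟨z', rfl⟩ := hsurj z
  obtain ⟨w, hw⟩ := exists_lift hS (y - ε ≫ z') (by
    rw [Preadditive.sub_comp, Category.assoc, hz, sub_self])
  exact ⟨w, by rw [← cancel_mono S.f, Category.assoc, hw, Preadditive.comp_sub,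
    reassoc_of% hP.w, zero_comp, sub_zero, hy]⟩

omit [HasExt.{w} A] in
/-- Dimension shifting, upwards. -/
lemma exactHom_X₃ (hS : S.ShortExact) (q : ℕ)
    (hsurj : ∀ x : P.X (q + 1) ⟶ S.X₃, ∃ y : P.X (q + 1) ⟶ S.X₂, y ≫ S.g = x)
    (h2 : ExactHom P S.X₂ q) (h1 : ExactHom P S.X₁ (q + 1)) : ExactHom P S.X₃ q := by
  have := hS.mono_f
  intro x hx
  obtain ⟨x', rfl⟩ := hsurj x
  obtain ⟨u, hu⟩ := exists_lift hS (P.d (q + 2) (q + 1) ≫ x') (by rw [Category.assoc, hx])
  obtain ⟨w, hw⟩ := h1 u (by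
    rw [← cancel_mono S.f, Category.assoc, hu, P.d_comp_d_assoc, zero_comp, zero_comp])
  obtain ⟨y, hy⟩ := h2 (x' - w ≫ S.f) (by
    rw [Preadditive.comp_sub, ← Category.assoc _ w, hw, hu, sub_self])
  exact ⟨y ≫ S.g, by rw [← Category.assoc, hy, Preadditive.sub_comp, Category.assoc, S.zero,
    comp_zero, sub_zero]⟩

end Groth.Agent.Lib.SiteCoh.HomAcyclic
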