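import Groth.Agent.Lib.SiteCoh.Basic
import Mathlib.CategoryTheory.Sites.Adjunction
import Mathlib.CategoryTheory.Sites.PreservesSheafification

/-!
# The free abelian sheaf on a sheaf of sets
-/

universe u

open CategoryTheory Limits Opposite Abelian

namespace Groth.Agent.Lib.SiteCoh.FreeSheaf

variable {C : Type u} [SmallCategory C] (J : GrothendieckTopology C)

/-- The free abelian sheaf functor on sheaves of sets. -/
noncomputable abbrev freeSh : Sheaf J (Type u) ⥤ Sheaf J AddCommGrpCat.{u} :=
  Sheaf.composeAndSheafify J AddCommGrpCat.free.{u}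

/-- The free abelian sheaf is left adjoint to the forgetful functor. -/
noncomputable def freeShAdj : freeSh J ⊣ sheafCompose J (forget AddCommGrpCat.{u}) :=
  Sheaf.adjunction J AddCommGrpCat.adj

instance freeSh_isLeftAdjoint : (freeSh J).IsLeftAdjoint :=
  (freeShAdj J).isLeftAdjoint

/-- The sheaf of sets associated to a representable presheaf. -/
noncomputable abbrev repSh (U : C) : Sheaf J (Type u) :=
  (presheafToSheaf J (Type u)).obj (yoneda.obj U)

/-- The free sheaf on the sheaf represented by `U` is the free sheaf on `U`. -/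
noncomputable def freeShRepIso (U : C) : (freeSh J).obj (repSh J U) ≅ CohCx.freeSheaf J U :=
  (presheafToSheafCompComposeAndSheafifyIso J AddCommGrpCat.free.{u}).app (yoneda.obj U)

variable {J}

/-- Cohomology over `U` is cohomology with respect to the sheaf represented by `U`. -/
noncomputable def hkRepEquiv (F : Sheaf J AddCommGrpCat.{u}) (U : C) (n : ℕ) :
    CohCx.HK (repSh J U) F n ≃+ CohSite.HU F n U where
  toFun x := (Ext.mk₀ (freeShRepIso J U).inv).comp x (zero_add n)
  invFun x := (Ext.mk₀ (freeShRepIso J U).hom).comp (Basic.huEquiv F n U x) (zero_add n)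
  left_inv x := by
    change (Ext.mk₀ (freeShRepIso J U).hom).comp
      ((Ext.mk₀ (freeShRepIso J U).inv).comp x (zero_add n)) (zero_add n) = x
    rw [Ext.mk₀_comp_mk₀_assoc, Iso.hom_inv_id, Ext.mk₀_id_comp]
  right_inv x := by
    change (Ext.mk₀ (freeShRepIso J U).inv).comp
      ((Ext.mk₀ (freeShRepIso J U).hom).comp (Basic.huEquiv F n U x) (zero_add n)) (zero_add n) = _
    rw [Ext.mk₀_comp_mk₀_assoc, Iso.inv_hom_id, Ext.mk₀_id_comp]
    rfl
  map_add' x y := Ext.comp_add _ _ _ _

/-- A totally acyclic sheaf has no cohomology over objects of the site. -/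
lemma subsingleton_hu_of_isTotallyAcyclic {F : Sheaf J AddCommGrpCat.{u}}
    (hF : CohCx.IsTotallyAcyclic F) (U : C) (p : ℕ) :
    Subsingleton (CohSite.HU F (p + 1) U) :=
  have := hF (repSh J U) p
  (hkRepEquiv F U (p + 1)).toEquiv.symm.subsingleton

end Groth.Agent.Lib.SiteCoh.FreeSheaf
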