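import Groth.Agent.Lib.SiteCoh.InclBot
import Groth.Agent.Lib.SiteCoh.FreeRes
import Groth.Agent.Lib.SpecSeq.ProjExt
import Mathlib.CategoryTheory.Limits.FormalCoproducts.Cech
import Mathlib.CategoryTheory.Sites.SheafCohomology.Cech
import Mathlib.CategoryTheory.Limits.Shapes.ConcreteCategory
import Groth.Prelude.Def_CohCx

/-!
# Cech cohomology of a family as `Ext` out of the generated sieve, in presheaves
-/

universe u

open CategoryTheory Limits Opposite Abelian

namespace Groth.Agent.Lib.SiteCoh.CechFam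

open InclBot FreeRes
open scoped Simplicial

variable {C : Type u} [SmallCategory C] {X : C}

/-- The presheaf of sets of a formal coproduct of objects over `X`. -/
@[simps]
def realObj (E : FormalCoproduct.{u} (Over X)) : Cᵒᵖ ⥤ Type u where
  obj W := Σ i : E.I, (W.unop ⟶ (E.obj i).left)
  map g := ↾fun p => ⟨p.1, g.unop ≫ p.2⟩
  map_id W := by ext ⟨i, h⟩ <;> simp
  map_comp f g := by ext ⟨i, h⟩ <;> simp

/-- Realisation of formal coproducts as presheaves of sets. -/
def real : FormalCoproduct.{u} (Over X) ⥤ (Cᵒᵖ ⥤ Type u) where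
  obj := realObj
  map f :=
    { app := fun W => ↾fun p => ⟨f.f p.1, p.2 ≫ (f.φ p.1).left⟩
      naturality := fun W W' g => by
        ext ⟨i, h⟩
        exact Sigma.ext rfl (heq_of_eq (Category.assoc _ _ _)) }
  map_id E := by
    ext W ⟨i, h⟩
    exact Sigma.ext rfl (heq_of_eq (Category.comp_id _))
  map_comp f g := by
    ext W ⟨i, h⟩
    exact Sigma.ext rfl (heq_of_eq (Category.assoc _ _ _).symm)

lemma real_map_apply {E E' : FormalCoproduct.{u} (Over X)} (f : E ⟶ E') {W : Cᵒᵖ}
    (p : ((real.{u} (X := X)).obj E).obj W) :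
    ((real.{u} (X := X)).map f).app W p = ⟨f.f p.1, p.2 ≫ (f.φ p.1).left⟩ := rfl

/-- Sections of a presheaf on a formal coproduct as maps out of the free presheaf on it. -/
noncomputable def homEvalMap (M : Sheaf (⊥ : GrothendieckTopology C) AddCommGrpCat.{u})
    (E : FormalCoproduct.{u} (Over X)) :
    AddCommGrpCat.of (freeBot ((real.{u} (X := X)).obj E) ⟶ M) ⟶
      ∏ᶜ fun i : E.I => M.obj.obj (op (E.obj i).left) :=
  Pi.lift fun i => AddCommGrpCat.ofHom (AddMonoidHom.mk'
    (fun f => (freeBotEquiv ((real.{u} (X := X)).obj E) M f).app (op (E.obj i).left) ⟨i, 𝟙 _⟩)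
    (fun f g => by rfl))

lemma homEvalMap_π (M : Sheaf (⊥ : GrothendieckTopology C) AddCommGrpCat.{u})
    (E : FormalCoproduct.{u} (Over X)) (i : E.I) (f : freeBot ((real.{u} (X := X)).obj E) ⟶ M) :
    Pi.π (fun i : E.I => M.obj.obj (op (E.obj i).left)) i (homEvalMap M E f) =
      (freeBotEquiv ((real.{u} (X := X)).obj E) M f).app (op (E.obj i).left) ⟨i, 𝟙 _⟩ := by
  rw [← ConcreteCategory.comp_apply, homEvalMap, Pi.lift_π]
  rfl

instance isIso_homEvalMap (M : Sheaf (⊥ : GrothendieckTopology C) AddCommGrpCat.{u})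
    (E : FormalCoproduct.{u} (Over X)) : IsIso (homEvalMap M E) := by
  refine (ConcreteCategory.isIso_iff_bijective _).2 ⟨fun f g h => ?_, fun x => ?_⟩
  · apply (freeBotEquiv ((real.{u} (X := X)).obj E) M).injective
    ext W ⟨i, m⟩
    have e := congrArg (Pi.π (fun i : E.I => M.obj.obj (op (E.obj i).left)) i) h
    rw [homEvalMap_π, homEvalMap_π] at e
    have hm : (⟨i, m⟩ : ((real.{u} (X := X)).obj E).obj W) = ((real.{u} (X := X)).obj E).map m.op ⟨i, 𝟙 _⟩ :=
      Sigma.ext rfl (heq_of_eq (Category.comp_id m).symm)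
    rw [hm]
    exact (NatTrans.naturality_apply _ m.op _).trans
      ((congrArg _ e).trans (NatTrans.naturality_apply _ m.op _).symm)
  · refine ⟨(freeBotEquiv ((real.{u} (X := X)).obj E) M).symm
      { app := fun W => ↾fun p => M.obj.map p.2.op
          (Pi.π (fun i : E.I => M.obj.obj (op (E.obj i).left)) p.1 x)
        naturality := fun W W' g => by
          ext ⟨i, m⟩
          change M.obj.map (g.unop ≫ m).op _ = M.obj.map g (M.obj.map m.op _)
          rw [op_comp, Functor.map_comp]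
          rfl }, Concrete.limit_ext _ _ _ fun ⟨i⟩ => ?_⟩
    refine (homEvalMap_π M E i _).trans ?_
    rw [Equiv.apply_symm_apply]
    change M.obj.map (𝟙 (E.obj i).left).op _ = _
    rw [op_id, M.obj.map_id]
    rfl

/-- Maps out of the free presheaf on a formal coproduct are the evaluation there. -/
noncomputable def homEvalIso (M : Sheaf (⊥ : GrothendieckTopology C) AddCommGrpCat.{u}) :
    (real (X := X)).op ⋙ (freeP (⊥ : GrothendieckTopology C)).op ⋙ preadditiveYoneda.obj M ≅
      (FormalCoproduct.evalOp.{u} (Over X) AddCommGrpCat.{u}).obj ((Over.forget X).op ⋙ M.obj) :=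
  NatIso.ofComponents (fun E => @asIso _ _ _ _ _ (isIso_homEvalMap M E.unop)) (fun {E E'} g => by
    refine Pi.hom_ext _ _ fun i => ?_
    ext f
    refine (homEvalMap_π M E'.unop i _).trans ?_
    have hnat : freeBotEquiv ((real.{u} (X := X)).obj E'.unop) M
        ((freeP (⊥ : GrothendieckTopology C)).map ((real.{u} (X := X)).map g.unop) ≫ f) =
        (real.{u} (X := X)).map g.unop ≫ freeBotEquiv ((real.{u} (X := X)).obj E.unop) M f :=
      ((AddCommGrpCat.adj.whiskerRight Cᵒᵖ).comp
        (sheafificationAdjunction ⊥ AddCommGrpCat.{u})).homEquiv_naturality_left _ f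
    refine (congrArg (fun t => t.app (op (E'.unop.obj i).left) ⟨i, 𝟙 _⟩) hnat).trans ?_
    let a := freeBotEquiv ((real.{u} (X := X)).obj E.unop) M f
    change a.app (op (E'.unop.obj i).left) ⟨g.unop.f i, 𝟙 (E'.unop.obj i).left ≫ (g.unop.φ i).left⟩ = _
    have hm : (⟨g.unop.f i, 𝟙 _ ≫ (g.unop.φ i).left⟩ : ((real.{u} (X := X)).obj E.unop).obj (op (E'.unop.obj i).left)) =
        ((real.{u} (X := X)).obj E.unop).map (g.unop.φ i).left.op ⟨g.unop.f i, 𝟙 _⟩ :=
      Sigma.ext rfl (heq_of_eq ((Category.id_comp _).trans (Category.comp_id _).symm))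
    rw [hm, NatTrans.naturality_apply a]
    refine (congrArg (M.obj.map (g.unop.φ i).left.op)
      (homEvalMap_π M E.unop (g.unop.f i) f).symm).trans ?_
    simp only [← ConcreteCategory.comp_apply]
    congr 2
    simp [FormalCoproduct.evalOp]
    rfl)

lemma projective_freeBot_real (E : FormalCoproduct.{u} (Over X)) :
    Projective (freeBot ((real.{u} (X := X)).obj E)) := by
  refine ⟨fun {A B} f e _ => ?_⟩
  have hs : ∀ W, Function.Surjective (e.hom.app W) := fun W b => by
    have : Sheaf.IsLocallySurjective e := (Sheaf.isLocallySurjective_iff_epi' _ _).2 inferInstance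
    have hmem := Presheaf.imageSieve_mem (⊥ : GrothendieckTopology C) e.hom (U := W) b
    rw [GrothendieckTopology.bot_covering] at hmem
    have h1 : (Presheaf.imageSieve e.hom (U := W.unop) b).arrows (𝟙 W.unop) := by rw [hmem]; trivial
    obtain ⟨a, ha⟩ := h1
    exact ⟨a, ha.trans (by simp)⟩
  let s : ∀ i, A.obj.obj (op (E.obj i).left) := fun i =>
    (hs _ ((freeBotEquiv _ _ f).app (op (E.obj i).left) ⟨i, 𝟙 _⟩)).choose
  refine ⟨(freeBotEquiv ((real.{u} (X := X)).obj E) A).symm
    { app := fun W => ↾fun p => A.obj.map p.2.op (s p.1)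
      naturality := fun W W' g => by
        ext ⟨i, m⟩
        change A.obj.map (g.unop ≫ m).op _ = A.obj.map g (A.obj.map m.op _)
        rw [op_comp, Functor.map_comp]
        rfl }, ?_⟩
  apply (freeBotEquiv ((real.{u} (X := X)).obj E) B).injective
  rw [freeBotEquiv_comp, Equiv.apply_symm_apply]
  ext W ⟨i, m⟩
  change e.hom.app W (A.obj.map m.op (s i)) = _
  rw [NatTrans.naturality_apply e.hom, (hs _ _).choose_spec]
  exact (NatTrans.naturality_apply (freeBotEquiv _ _ f) m.op _).symm.trans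
    (congrArg _ (Sigma.ext rfl (heq_of_eq (Category.comp_id m))))

variable [HasPullbacks C] {ι : Type u} (Y : ι → Over X)

/-- The family as a formal coproduct. -/
abbrev fam : FormalCoproduct.{u} (Over X) := FormalCoproduct.mk _ Y

/-- The sieve generated by the family. -/
abbrev sieve : Sieve X := Sieve.ofArrows (fun i => (Y i).left) (fun i => (Y i).hom)

/-- The augmentation of a simplex. -/
lemma comp_hom_mem {n : SimplexCategoryᵒᵖ} {W : C} (p : (realObj ((fam Y).cech.obj n)).obj (op W)) :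
    (sieve Y).arrows (p.2 ≫ (((fam Y).cech.obj n).obj p.1).hom) := by
  refine (Sieve.mem_ofArrows_iff _ _ _).2 ⟨p.1 0, p.2 ≫ (Pi.π (Y ∘ p.1) 0).left, ?_⟩
  rw [Category.assoc]
  exact (congrArg (p.2 ≫ ·) (Over.w (Pi.π (Y ∘ p.1) 0))).symm

/-- The augmented Cech object of the family, as presheaves of sets. -/
noncomputable def aug : SimplicialObject.Augmented (Cᵒᵖ ⥤ Type u) where
  left := (fam Y).cech ⋙ real
  right := (sieve Y).functor
  hom :=
    { app := fun n =>
        { app := fun W => ↾fun p => ⟨p.2 ≫ (((fam Y).cech.obj n).obj p.1).hom, comp_hom_mem Y p⟩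
          naturality := fun W W' g => by
            ext p
            exact Subtype.ext (Category.assoc _ _ _) }
      naturality := fun n n' θ => by
        ext W p
        refine Subtype.ext ?_
        change (p.2 ≫ (((fam Y).cech.map θ).φ p.1).left) ≫ _ = p.2 ≫ _
        rw [Category.assoc]
        exact congrArg (p.2 ≫ ·) (Over.w (((fam Y).cech.map θ).φ p.1)) }

variable {Y}

/-- Components of a simplex. -/
noncomputable abbrev comp {k : ℕ} {W : C} (p : ((aug Y).left.obj (op ⦋k⦌)).obj (op W))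
    (a : Fin (k + 1)) : Σ j : ι, (W ⟶ (Y j).left) :=
  ⟨p.1 a, p.2 ≫ (Pi.π (Y ∘ p.1) a).left⟩

lemma comp_map {k l : ℕ} {W : C} (θ : ⦋l⦌ ⟶ ⦋k⦌) (p : ((aug Y).left.obj (op ⦋k⦌)).obj (op W))
    (a : Fin (l + 1)) :
    comp (((aug Y).left.map θ.op).app (op W) p) a = comp p (θ.toOrderHom a) := by
  refine Sigma.ext rfl (heq_of_eq ?_)
  change (p.2 ≫ (((fam Y).cech.map θ.op).φ p.1).left) ≫ (Pi.π (Y ∘ _) a).left = p.2 ≫ _
  rw [Category.assoc, ← Over.comp_left]
  congr 2
  exact Pi.lift_π _ _

lemma level_ext {k : ℕ} {W : C} (p p' : ((aug Y).left.obj (op ⦋k⦌)).obj (op W))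
    (h : ∀ a, comp p a = comp p' a) : p = p' := by
  obtain ⟨i, m⟩ := p
  obtain ⟨i', m'⟩ := p'
  obtain rfl : i = i' := funext fun a => congrArg Sigma.fst (h a)
  have h' : ∀ a, m ≫ (Pi.π (Y ∘ i) a).left = m' ≫ (Pi.π (Y ∘ i) a).left := fun a =>
    eq_of_heq (Sigma.mk.inj_iff.1 (h a)).2
  have hbase : m' ≫ (∏ᶜ (Y ∘ i)).hom = m ≫ (∏ᶜ (Y ∘ i)).hom := by
    have hw := Over.w (Pi.π (Y ∘ i) 0)
    rw [← hw]
    exact ((Category.assoc _ _ _).symm.trans ((congrArg (· ≫ _) (h' 0).symm).trans (Category.assoc _ _ _)))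
  let f : Over.mk (m ≫ (∏ᶜ (Y ∘ i)).hom) ⟶ ∏ᶜ (Y ∘ i) := Over.homMk m
  let f' : Over.mk (m ≫ (∏ᶜ (Y ∘ i)).hom) ⟶ ∏ᶜ (Y ∘ i) := Over.homMk m' hbase
  have hf : f = f' := Pi.hom_ext _ _ fun a => Over.OverMorphism.ext (h' a)
  exact Sigma.ext rfl (heq_of_eq (congrArg CommaMorphism.left hf))

variable (Y)

lemma isCechLike : IsCechLike (aug Y) where
  ext {k W} x x' h := level_ext x x' fun a => by
    have := congrArg (fun p => comp p 0) (h a)
    simp only [vertex, comp_map] at this
    exact this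
  lift {k W} b t h := by
    let i : Fin (k + 1) → ι := fun a => (t a).1 0
    let f : Over.mk b.1 ⟶ ∏ᶜ (Y ∘ i) := Pi.lift fun a =>
      Over.homMk (comp (t a) 0).2 (by
        change ((t a).2 ≫ (Pi.π (Y ∘ (t a).1) 0).left) ≫ (Y ((t a).1 0)).hom = b.1
        rw [Category.assoc]
        refine (congrArg ((t a).2 ≫ ·) (Over.w (Pi.π (Y ∘ (t a).1) 0))).trans ?_
        exact congrArg Subtype.val (h a))
    refine ⟨⟨i, f.left⟩, fun a => level_ext _ _ fun a' => ?_⟩
    obtain rfl : a' = 0 := Fin.eq_zero a'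
    simp only [vertex, comp_map]
    refine Sigma.ext rfl (heq_of_eq ?_)
    change f.left ≫ (Pi.π (Y ∘ i) a).left = (comp (t a) 0).2
    rw [← Over.comp_left, Pi.lift_π]
    rfl

lemma isLocallySurjective_hom (J : GrothendieckTopology C) :
    Presheaf.IsLocallySurjective J ((aug Y).hom.app (op ⦋0⦌)) :=
  Presheaf.isLocallySurjective_of_surjective J _ fun W b => by
    obtain ⟨j, g, hb⟩ := (Sieve.mem_ofArrows_iff _ _ _).1 b.2
    let f' : Over.mk b.1 ⟶ ∏ᶜ (Y ∘ fun _ : Fin 1 => j) := Pi.lift fun _ => Over.homMk g hb.symm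
    exact ⟨⟨fun _ => j, f'.left⟩, Subtype.ext (Over.w f')⟩

/-- The free presheaf complex of the family resolves the free presheaf on the sieve. -/
instance quasiIso_ε :
    QuasiIso ((AlgebraicTopology.AlternatingFaceMapComplex.ε
      (C := Sheaf (⊥ : GrothendieckTopology C) AddCommGrpCat.{u})).app (freeAug (aug Y))) :=
  FreeRes.quasiIso_ε ((isCechLike Y).hasFillers (isLocallySurjective_hom Y ⊥))

/-- The projective resolution of the free presheaf on the sieve. -/
noncomputable def resolution : ProjectiveResolution (freeBot (sieve Y).functor) where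
  complex := (AlgebraicTopology.alternatingFaceMapComplex _).obj
    (freeAug (J := (⊥ : GrothendieckTopology C)) (aug Y)).left
  projective n := projective_freeBot_real ((fam Y).cech.obj (op ⦋n⦌))
  π := (AlgebraicTopology.AlternatingFaceMapComplex.ε
      (C := Sheaf (⊥ : GrothendieckTopology C) AddCommGrpCat.{u})).app (freeAug (aug Y))
  quasiIso := quasiIso_ε Y

/-- The cosimplicial group of maps out of the resolution. -/
noncomputable abbrev homCos (M : Sheaf (⊥ : GrothendieckTopology C) AddCommGrpCat.{u}) :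
    CosimplicialObject AddCommGrpCat.{u} :=
  (fam Y).cech.rightOp ⋙ ((real.{u} (X := X)).op ⋙ (freeP (⊥ : GrothendieckTopology C)).op ⋙
    preadditiveYoneda.obj M)

lemma homCos_d (M : Sheaf (⊥ : GrothendieckTopology C) AddCommGrpCat.{u}) (n : ℕ)
    (x : (resolution Y).complex.X n ⟶ M) :
    ((AlgebraicTopology.alternatingCofaceMapComplex AddCommGrpCat.{u}).obj
      (homCos Y M)).d n (n + 1) x = (resolution Y).complex.d (n + 1) n ≫ x := by
  let G := homCos Y M
  have h1 : ((AlgebraicTopology.alternatingCofaceMapComplex AddCommGrpCat.{u}).obj G).d n (n + 1) =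
      ∑ i : Fin (n + 2), (-1 : ℤ) ^ (i : ℕ) • CosimplicialObject.δ G i := by
    exact CochainComplex.of_d (fun n => G.obj ⦋n⦌) (AlgebraicTopology.AlternatingCofaceMapComplex.objD G)
      n
  have h2 : (resolution Y).complex.d (n + 1) n =
      ∑ i : Fin (n + 2), (-1 : ℤ) ^ (i : ℕ) •
        (freeAug (J := (⊥ : GrothendieckTopology C)) (aug Y)).left.δ i :=
    AlgebraicTopology.AlternatingFaceMapComplex.obj_d_eq _ n
  refine (ConcreteCategory.congr_hom h1 x).trans
    (Eq.trans ?_ (congrArg (fun t => t ≫ x) h2).symm)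
  refine ((congrArg (fun t : _ →+ _ => t x) (map_sum (AddCommGrpCat.homAddEquiv
      (M := G.obj ⦋n⦌) (N := G.obj ⦋n + 1⦌)) _ _)).trans (AddMonoidHom.finsetSum_apply _ _ x)).trans ?_
  refine Eq.trans ?_ (Preadditive.sum_comp _ _ _).symm
  refine Finset.sum_congr rfl fun i _ => ?_
  refine Eq.trans ?_ (Preadditive.zsmul_comp _ _ _).symm
  rfl

/-- **Cech cohomology of a family is `Ext` out of the sieve it generates.** -/
theorem nonempty_cechH_iso_ext (M : Sheaf (⊥ : GrothendieckTopology C) AddCommGrpCat.{u}) (q : ℕ) :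
    Nonempty (CohCx.cechH M.obj Y q ≅
      AddCommGrpCat.of (Ext (freeBot (sieve Y).functor) M q)) :=
  ⟨(HomologicalComplex.homologyFunctor _ _ q).mapIso
      ((AlgebraicTopology.alternatingCofaceMapComplex AddCommGrpCat.{u}).mapIso
        (Functor.isoWhiskerLeft (fam Y).cech.rightOp (homEvalIso M)).symm) ≪≫
    SpecSeq.ProjExt.homologyIso (resolution Y)
      ((AlgebraicTopology.alternatingCofaceMapComplex AddCommGrpCat.{u}).obj (homCos Y M))
      (fun _ => AddEquiv.refl _) (homCos_d Y M) q⟩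

end Groth.Agent.Lib.SiteCoh.CechFam
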