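import Mathlib.CategoryTheory.Sites.LocallySurjective
import Mathlib.GroupTheory.FreeAbelianGroup
import Mathlib.Data.Set.Finite.Basic
import Mathlib.Data.Set.Finite.Range
import Mathlib.Data.Set.Finite.Lattice
import Mathlib.Algebra.BigOperators.Fin
import Mathlib.Tactic.Abel

/-!
# Local fillers and local acyclicity of free chains

An augmented semi-simplicial presheaf of sets `A` (degree `0` is the base) has fillers if
`A 1 ⟶ A 0` is locally surjective and every matching family of faces is locally filled.
Then every cycle of the free chain complex is locally a boundary.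
-/

universe u

open CategoryTheory Opposite

namespace Groth.Agent.Lib.SiteCoh.Fillers

variable {C : Type u} [SmallCategory C]

/-- An augmented semi-simplicial presheaf of sets, degree `0` being the base. -/
structure SemiPsh (C : Type u) [SmallCategory C] where
  /-- the presheaves of simplices, shifted by one -/
  obj : ℕ → Cᵒᵖ ⥤ Type u
  /-- the face maps -/
  d : ∀ k, Fin (k + 1) → (obj (k + 1) ⟶ obj k)
  d_comp_d : ∀ k (i j : Fin (k + 1)), i ≤ j →
    d (k + 1) j.succ ≫ d k i = d (k + 1) i.castSucc ≫ d k j

variable (A : SemiPsh C)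

/-- Restriction of simplices. -/
abbrev res {k : ℕ} {U V : C} (g : V ⟶ U) (x : (A.obj k).obj (op U)) : (A.obj k).obj (op V) :=
  (A.obj k).map g.op x

/-- A face of a simplex. -/
abbrev face {k : ℕ} {U : C} (i : Fin (k + 1)) (x : (A.obj (k + 1)).obj (op U)) :
    (A.obj k).obj (op U) :=
  (A.d k i).app (op U) x

lemma face_res {k : ℕ} {U V : C} (g : V ⟶ U) (i : Fin (k + 1))
    (x : (A.obj (k + 1)).obj (op U)) : face A i (res A g x) = res A g (face A i x) :=
  NatTrans.naturality_apply (A.d k i) g.op x

lemma face_face {k : ℕ} {U : C} (i j : Fin (k + 1)) (h : i ≤ j)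
    (x : (A.obj (k + 2)).obj (op U)) :
    face A i (face A j.succ x) = face A j (face A i.castSucc x) :=
  ConcreteCategory.congr_hom (NatTrans.congr_app (A.d_comp_d k i j h) (op U)) x

lemma res_res {k : ℕ} {U V W : C} (g : V ⟶ U) (h : W ⟶ V) (x : (A.obj k).obj (op U)) :
    res A h (res A g x) = res A (h ≫ g) x := by
  simp [res]

/-- A family of faces is matching. -/
def Matching {k : ℕ} {U : C} (y : Fin (k + 2) → (A.obj (k + 1)).obj (op U)) : Prop :=
  ∀ i j : Fin (k + 1), i ≤ j → face A i (y j.succ) = face A j (y i.castSucc)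

/-- The sieve of arrows along which a family of faces has a filler. -/
def fillSieve {k : ℕ} {U : C} (y : Fin (k + 2) → (A.obj (k + 1)).obj (op U)) : Sieve U where
  arrows V g := ∃ x : (A.obj (k + 2)).obj (op V), ∀ i, face A i x = res A g (y i)
  downward_closed := by
    rintro V W g ⟨x, hx⟩ h
    exact ⟨res A h x, fun i => by rw [face_res, hx, res_res]⟩

/-- Every matching family of faces can be filled locally, and the augmentation is locally
surjective. -/
structure HasFillers (J : GrothendieckTopology C) : Prop where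
  surj : Presheaf.IsLocallySurjective J (A.d 0 0)
  fill : ∀ {k : ℕ} {U : C} (y : Fin (k + 2) → (A.obj (k + 1)).obj (op U)),
    Matching A y → fillSieve A y ∈ J U

/-- The cone family of a simplex `x`, given cones on the set `T` containing its faces. -/
def coneFamily {k : ℕ} {U V : C} (g : V ⟶ U) (T : Set ((A.obj k).obj (op U)))
    (c : T → (A.obj (k + 1)).obj (op V)) (x : (A.obj (k + 1)).obj (op U))
    (hx : ∀ i, face A i x ∈ T) : Fin (k + 2) → (A.obj (k + 1)).obj (op V) :=
  Fin.cons (res A g x) fun i => c ⟨face A i x, hx i⟩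

/-- The sieve of arrows along which compatible cones on `T` exist. -/
def coneSieve {k : ℕ} {U : C} (T : Set ((A.obj k).obj (op U))) : Sieve U where
  arrows V g := ∃ c : T → (A.obj (k + 1)).obj (op V), (∀ y : T, face A 0 (c y) = res A g y) ∧
    ∀ x (hx : ∀ i, face A i x ∈ T), Matching A (coneFamily A g T c x hx)
  downward_closed := by
    rintro V W g ⟨c, hc, hm⟩ h
    refine ⟨fun y => res A h (c y), fun y => by rw [face_res, hc, res_res], fun x hx i j hij => ?_⟩
    have e : ∀ l, coneFamily A (h ≫ g) T (fun y => res A h (c y)) x hx l =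
        res A h (coneFamily A g T c x hx l) := by
      intro l
      induction l using Fin.cases with
      | zero => simp only [coneFamily, Fin.cons_zero, res_res]
      | succ l => simp only [coneFamily, Fin.cons_succ]
    rw [e, e, face_res, face_res, hm x hx i j hij]

/-- The sieve of arrows along which cones on `T` with faces given by cones exist. -/
def stepSieve {k : ℕ} {U : C} (T : Set ((A.obj (k + 1)).obj (op U))) : Sieve U where
  arrows V g := ∃ (c : T → (A.obj (k + 2)).obj (op V))
      (T' : Set ((A.obj k).obj (op U))) (h : ∀ x ∈ T, ∀ i, face A i x ∈ T')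
      (c' : T' → (A.obj (k + 1)).obj (op V)),
    (∀ x : T, face A 0 (c x) = res A g x) ∧
      ∀ (x : T) (i : Fin (k + 1)), face A i.succ (c x) = c' ⟨_, h x x.2 i⟩
  downward_closed := by
    rintro V W g ⟨c, T', h, c', hc, hc'⟩ e
    exact ⟨fun y => res A e (c y), T', h, fun y => res A e (c' y),
      fun y => by rw [face_res, hc, res_res], fun y i => by rw [face_res, hc']⟩

variable {A} {J : GrothendieckTopology C}

lemma inf_mem {ι : Type*} {U : C} (s : Finset ι) (S : ι → Sieve U) (h : ∀ i ∈ s, S i ∈ J U) :
    s.inf S ∈ J U := by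
  induction s using Finset.cons_induction with
  | empty => simp
  | cons a s ha ih =>
    rw [Finset.inf_cons]
    exact J.intersection_covering (h a (Finset.mem_cons_self a s))
      (ih fun i hi => h i (Finset.mem_cons_of_mem hi))

lemma stepSieve_mem (hA : HasFillers A J) {k : ℕ} {U : C}
    (T : Set ((A.obj (k + 1)).obj (op U))) (hT : T.Finite)
    (hR : ∀ T' : Set ((A.obj k).obj (op U)), T'.Finite → coneSieve A T' ∈ J U) :
    stepSieve A T ∈ J U := by
  classical
  let T' : Set ((A.obj k).obj (op U)) := ⋃ x ∈ T, Set.range fun i => face A i x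
  have hT' : T'.Finite := hT.biUnion fun x _ => Set.finite_range _
  have h : ∀ x ∈ T, ∀ i, face A i x ∈ T' := fun x hx i =>
    Set.mem_biUnion hx (Set.mem_range_self i)
  refine J.transitive (hR T' hT') _ ?_
  rintro V g ⟨c', hc', hm⟩
  have := hT.fintype
  refine J.superset_covering ?_ (inf_mem (J := J) Finset.univ
    (fun x : T => fillSieve A (coneFamily A g T' c' x (h x x.2))) fun x _ =>
      hA.fill _ (hm _ _))
  intro W e he
  have he' : ∀ x : T, fillSieve A (coneFamily A g T' c' x (h x x.2)) e := fun x =>
    (Finset.inf_le (f := fun x : T => fillSieve A (coneFamily A g T' c' x (h x x.2)))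
      (Finset.mem_univ x)) _ he
  choose c hc using he'
  refine ⟨c, T', h, fun y => res A e (c' y), fun x => ?_, fun x i => ?_⟩
  · rw [hc x 0, coneFamily, Fin.cons_zero, res_res]
  · rw [hc x i.succ, coneFamily, Fin.cons_succ]

lemma coneSieve_mem (hA : HasFillers A J) (k : ℕ) :
    ∀ {U : C} (T : Set ((A.obj k).obj (op U))), T.Finite → coneSieve A T ∈ J U := by
  classical
  induction k with
  | zero =>
    intro U T hT
    have := hT.fintype
    have := hA.surj
    refine J.superset_covering ?_ (inf_mem (J := J) Finset.univ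
      (fun y : T => Presheaf.imageSieve (A.d 0 0) (y : (A.obj 0).obj (op U))) fun y _ =>
        Presheaf.imageSieve_mem J (A.d 0 0) (U := op U) _)
    intro V g hg
    have hg' : ∀ y : T, Presheaf.imageSieve (A.d 0 0) (y : (A.obj 0).obj (op U)) g := fun y =>
      (Finset.inf_le (f := fun y : T => Presheaf.imageSieve (A.d 0 0) (y : (A.obj 0).obj (op U)))
        (Finset.mem_univ y)) _ hg
    choose c hc using hg'
    refine ⟨c, hc, fun x hx i j hij => ?_⟩
    obtain rfl : i = 0 := Fin.ext (by omega)
    obtain rfl : j = 0 := Fin.ext (by omega)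
    simp only [coneFamily, Fin.cons_succ, Fin.castSucc_zero, Fin.cons_zero]
    rw [show face A 0 (c ⟨face A 0 x, hx 0⟩) = res A g (face A 0 x) from hc _, face_res]
  | succ k ih =>
    intro U T hT
    refine J.superset_covering ?_ (stepSieve_mem hA T hT fun T' hT' => ih T' hT')
    rintro V g ⟨c, T', h, c', hc, hc'⟩
    refine ⟨c, hc, fun x hx i j hij => ?_⟩
    induction j using Fin.cases with
    | zero =>
      obtain rfl : i = 0 := by simpa using hij
      simp only [coneFamily, Fin.cons_succ, Fin.castSucc_zero, Fin.cons_zero]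
      rw [hc, face_res]
    | succ j =>
      induction i using Fin.cases with
      | zero =>
        simp only [coneFamily, Fin.cons_succ, Fin.castSucc_zero, Fin.cons_zero]
        rw [hc, face_res]
      | succ i =>
        have hij' : i ≤ j := Fin.succ_le_succ_iff.1 hij
        simp only [coneFamily, Fin.cons_succ, Fin.castSucc_succ]
        rw [hc', hc']
        exact congrArg c' (Subtype.ext (face_face A i j hij' x))

/-- The boundary of free chains. -/
noncomputable def bd (A : SemiPsh C) (k : ℕ) (U : C) :
    FreeAbelianGroup ((A.obj (k + 1)).obj (op U)) →+ FreeAbelianGroup ((A.obj k).obj (op U)) :=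
  ∑ i : Fin (k + 1), (-1 : ℤ) ^ (i : ℕ) • FreeAbelianGroup.map (face A i)

lemma bd_apply (A : SemiPsh C) (k : ℕ) (U : C)
    (z : FreeAbelianGroup ((A.obj (k + 1)).obj (op U))) :
    bd A k U z = ∑ i : Fin (k + 1), (-1 : ℤ) ^ (i : ℕ) • FreeAbelianGroup.map (face A i) z := by
  exact (map_sum (AddMonoidHom.eval z) _ _).trans (Finset.sum_congr rfl fun _ _ => rfl)

lemma exists_finite_support {α : Type u} (z : FreeAbelianGroup α) :
    ∃ T : Set α, T.Finite ∧ ∃ z' : FreeAbelianGroup T, FreeAbelianGroup.map Subtype.val z' = z := by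
  induction z using FreeAbelianGroup.induction_on with
  | zero => exact ⟨∅, Set.finite_empty, 0, map_zero _⟩
  | of x => exact ⟨{x}, Set.finite_singleton x, .of ⟨x, rfl⟩, FreeAbelianGroup.map_of_apply _⟩
  | neg x h =>
    obtain ⟨T, hT, z', e⟩ := h
    exact ⟨T, hT, -z', by rw [map_neg, e]⟩
  | add x y hx hy =>
    obtain ⟨T, hT, z, rfl⟩ := hx
    obtain ⟨T', hT', z', rfl⟩ := hy
    refine ⟨T ∪ T', hT.union hT', FreeAbelianGroup.map (Set.inclusion Set.subset_union_left) z +
      FreeAbelianGroup.map (Set.inclusion Set.subset_union_right) z', ?_⟩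
    rw [map_add, ← FreeAbelianGroup.map_comp_apply, ← FreeAbelianGroup.map_comp_apply]
    rfl

/-- Every cycle is locally a boundary. -/
theorem exists_cover_boundary (hA : HasFillers A J) (k : ℕ) {U : C}
    (z : FreeAbelianGroup ((A.obj (k + 1)).obj (op U))) (hz : bd A k U z = 0) :
    ∃ S ∈ J U, ∀ ⦃V : C⦄ (g : V ⟶ U), S.arrows g → ∃ w : FreeAbelianGroup ((A.obj (k + 2)).obj (op V)),
      bd A (k + 1) V w = FreeAbelianGroup.map (res A g) z := by
  obtain ⟨T, hT, z', rfl⟩ := exists_finite_support z
  refine ⟨stepSieve A T, stepSieve_mem hA T hT fun T' hT' => coneSieve_mem hA k T' hT', ?_⟩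
  rintro V g ⟨c, T', h, c', hc, hc'⟩
  refine ⟨FreeAbelianGroup.map c z', ?_⟩
  rw [bd_apply, Fin.sum_univ_succ, Fin.val_zero, pow_zero, one_smul]
  have h0 : FreeAbelianGroup.map (face A 0) (FreeAbelianGroup.map c z') =
      FreeAbelianGroup.map (res A g) (FreeAbelianGroup.map Subtype.val z') := by
    rw [← FreeAbelianGroup.map_comp_apply, ← FreeAbelianGroup.map_comp_apply]
    exact congrArg (fun f => FreeAbelianGroup.map f z') (funext hc)
  let fT : Fin (k + 1) → T → T' := fun i x => ⟨_, h x x.2 i⟩
  have hs : ∀ i : Fin (k + 1), FreeAbelianGroup.map (face A i.succ) (FreeAbelianGroup.map c z') =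
      FreeAbelianGroup.map c' (FreeAbelianGroup.map (fT i) z') := by
    intro i
    rw [← FreeAbelianGroup.map_comp_apply, ← FreeAbelianGroup.map_comp_apply]
    exact congrArg (fun f => FreeAbelianGroup.map f z') (funext fun x => hc' x i)
  have hz' : ∑ i : Fin (k + 1), (-1 : ℤ) ^ (i : ℕ) • FreeAbelianGroup.map (fT i) z' = 0 := by
    classical
    have hinj : Function.Injective (FreeAbelianGroup.map (Subtype.val : T' → _)) := by
      intro a b hab
      let q : (A.obj k).obj (op U) → FreeAbelianGroup T' :=
        fun y => if hy : y ∈ T' then FreeAbelianGroup.of ⟨y, hy⟩ else 0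
      have hq : ∀ a : FreeAbelianGroup T',
          FreeAbelianGroup.lift q (FreeAbelianGroup.map Subtype.val a) = a := by
        intro a
        induction a using FreeAbelianGroup.induction_on with
        | zero => simp
        | of x => simp [q, x.2]
        | neg x hx => rw [map_neg, map_neg, hx]
        | add x y hx hy => simp [hx, hy]
      rw [← hq a, ← hq b, hab]
    apply hinj
    rw [map_sum, map_zero, ← hz, bd_apply]
    refine Finset.sum_congr rfl fun i _ => ?_
    rw [map_zsmul, ← FreeAbelianGroup.map_comp_apply, ← FreeAbelianGroup.map_comp_apply]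
    rfl
  rw [h0]
  simp only [hs, Fin.val_succ, pow_succ, mul_neg, mul_one, neg_smul, Finset.sum_neg_distrib]
  rw [show ∑ i : Fin (k + 1), (-1 : ℤ) ^ (i : ℕ) • FreeAbelianGroup.map c' (FreeAbelianGroup.map (fT i) z')
      = FreeAbelianGroup.map c' (∑ i : Fin (k + 1), (-1 : ℤ) ^ (i : ℕ) • FreeAbelianGroup.map (fT i) z') by
    simp [map_sum], hz', map_zero]
  abel

end Groth.Agent.Lib.SiteCoh.Fillers
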