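import Groth.Agent.Lib.SiteCoh.Acyclic
import Mathlib.CategoryTheory.Sites.Sieves
import Mathlib.CategoryTheory.Preadditive.Injective.Basic

/-!
# Sheaves as presheaves (sheaves for the trivial topology), and Ext out of sieves
-/

universe u

open CategoryTheory Limits Opposite Abelian

namespace Groth.Agent.Lib.SiteCoh.InclBot

open Basic Kill

variable {C : Type u} [SmallCategory C] (J : GrothendieckTopology C)

/-- The underlying presheaf, as a sheaf for the trivial topology. -/
noncomputable def inclBot :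
    Sheaf J AddCommGrpCat.{u} ⥤ Sheaf (⊥ : GrothendieckTopology C) AddCommGrpCat.{u} where
  obj F := ⟨F.obj, Presheaf.isSheaf_bot _⟩
  map f := ⟨f.hom⟩

instance : (inclBot J).Additive where

/-- Sheafification is left adjoint to `inclBot`. -/
noncomputable def adj :
    (sheafToPresheaf (⊥ : GrothendieckTopology C) AddCommGrpCat.{u} ⋙
      presheafToSheaf J AddCommGrpCat.{u}) ⊣ inclBot J :=
  Adjunction.mkOfHomEquiv
    { homEquiv := fun X F => ((sheafificationAdjunction J AddCommGrpCat.{u}).homEquiv X.obj F).trans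
        { toFun := fun f => ⟨f⟩
          invFun := fun f => f.hom }
      homEquiv_naturality_left_symm := fun f g =>
        (sheafificationAdjunction J AddCommGrpCat.{u}).homEquiv_naturality_left_symm f.hom g.hom
      homEquiv_naturality_right := fun f g => Sheaf.hom_ext
        ((sheafificationAdjunction J AddCommGrpCat.{u}).homEquiv_naturality_right f g) }

instance : (inclBot J).IsRightAdjoint := (adj J).isRightAdjoint

instance injective_inclBot (I : Sheaf J AddCommGrpCat.{u}) [Injective I] :
    Injective ((inclBot J).obj I) :=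
  Injective.injective_of_adjoint (adj J) I

variable {J}

/-- A sectionwise surjective short exact sequence of sheaves is exact as presheaves. -/
lemma shortExact_map_inclBot {S : ShortComplex (Sheaf J AddCommGrpCat.{u})} (hS : S.ShortExact)
    (h : ∀ U, Function.Surjective (S.g.hom.app (op U))) : (S.map (inclBot J)).ShortExact := by
  have := hS.mono_f
  have : Mono (S.map (inclBot J)).f := inferInstanceAs (Mono ((inclBot J).map S.f))
  have : Epi (S.map (inclBot J)).g := by
    refine (Sheaf.isLocallySurjective_iff_epi' _ (S.map (inclBot J)).g).1 ?_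
    exact Presheaf.isLocallySurjective_of_surjective _ (S.map (inclBot J)).g.hom fun V => h V.unop
  exact ShortComplex.ShortExact.mk' (ShortComplex.exact_of_f_is_kernel _
    (KernelFork.mapIsLimit _ hS.fIsKernel (inclBot J))) inferInstance inferInstance

/-- The free presheaf on a presheaf of sets. -/
noncomputable abbrev freeBot (R : Cᵒᵖ ⥤ Type u) :
    Sheaf (⊥ : GrothendieckTopology C) AddCommGrpCat.{u} :=
  (presheafToSheaf ⊥ AddCommGrpCat.{u}).obj (R ⋙ AddCommGrpCat.free.{u})

/-- Maps out of the free presheaf on `R`. -/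
noncomputable def freeBotEquiv (R : Cᵒᵖ ⥤ Type u)
    (G : Sheaf (⊥ : GrothendieckTopology C) AddCommGrpCat.{u}) :
    (freeBot R ⟶ G) ≃ (R ⟶ G.obj ⋙ forget AddCommGrpCat.{u}) :=
  ((AddCommGrpCat.adj.whiskerRight Cᵒᵖ).comp
    (sheafificationAdjunction ⊥ AddCommGrpCat.{u})).homEquiv R G

lemma freeBotEquiv_comp {R : Cᵒᵖ ⥤ Type u}
    {G H : Sheaf (⊥ : GrothendieckTopology C) AddCommGrpCat.{u}} (f : freeBot R ⟶ G) (φ : G ⟶ H) :
    freeBotEquiv R H (f ≫ φ) =
      freeBotEquiv R G f ≫ Functor.whiskerRight φ.hom (forget AddCommGrpCat.{u}) :=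
  ((AddCommGrpCat.adj.whiskerRight Cᵒᵖ).comp
    (sheafificationAdjunction ⊥ AddCommGrpCat.{u})).homEquiv_naturality_right f φ

/-- Compatible families on a covering sieve come from a section. -/
lemma exists_extension (F : Sheaf J AddCommGrpCat.{u}) {X : C} {R : Sieve X} (hR : R ∈ J X)
    (a : R.functor ⟶ F.obj ⋙ forget AddCommGrpCat.{u}) :
    ∃! g, R.functorInclusion ≫ g = a :=
  Presieve.isSheafFor_iff_yonedaSheafCondition.1
    ((isSheaf_iff_isSheaf_of_type J _).1 ((sheafCompose J (forget AddCommGrpCat.{u})).obj F).property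
      R hR) a

/-- A map into the third term lifts if `H¹` of the first vanishes and the obstruction vanishes. -/
lemma exists_lift {A : Type*} [Category A] [Abelian A] [HasExt.{u} A] (S : ShortComplex A)
    (hS : S.Exact) [Mono S.f] {Z : A} (z : Z ⟶ S.X₃) (hz : z ≫ cokernel.π S.g = 0)
    (h : ∀ x : Ext Z S.X₁ 1, x = 0) : ∃ t : Z ⟶ S.X₂, t ≫ S.g = z := by
  let S' := ShortComplex.mk S.f (Abelian.factorThruImage S.g)
    ((cancel_mono (Abelian.image.ι S.g)).1 (by
      rw [Category.assoc, Abelian.image.fac, S.zero, zero_comp]))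
  let φ : S' ⟶ S :=
    { τ₁ := 𝟙 _, τ₂ := 𝟙 _, τ₃ := Abelian.image.ι S.g }
  have : Epi φ.τ₁ := inferInstanceAs (Epi (𝟙 _))
  have : IsIso φ.τ₂ := inferInstanceAs (IsIso (𝟙 _))
  have : Mono φ.τ₃ := inferInstanceAs (Mono (Abelian.image.ι S.g))
  have hS' : S'.ShortExact := ShortComplex.ShortExact.mk'
    ((ShortComplex.exact_iff_of_epi_of_isIso_of_mono φ).2 hS) ‹Mono S.f›
    (inferInstanceAs (Epi (Abelian.factorThruImage S.g)))
  obtain ⟨t, ht⟩ := Ext.covariant_sequence_exact₃ Z hS'
    (Ext.mk₀ (kernel.lift (cokernel.π S.g) z hz)) (zero_add 1) (h _)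
  obtain ⟨t, rfl⟩ := (Ext.mk₀_bijective _ _).2 t
  rw [Ext.mk₀_comp_mk₀] at ht
  refine ⟨t, ?_⟩
  have ht' := (Ext.mk₀_bijective _ _).1 ht
  rw [← Abelian.image.fac S.g]
  refine (Category.assoc _ _ _).symm.trans ?_
  exact (congrArg (· ≫ Abelian.image.ι S.g) ht').trans (kernel.lift_ι _ _ _)

/-- The sieve vanishing condition. -/
def SieveAcyclic (F : Sheaf J AddCommGrpCat.{u}) : Prop :=
  ∀ (X : C) (R : Sieve X), R ∈ J X → ∀ q : ℕ,
    ∀ x : Ext (freeBot R.functor) ((inclBot J).obj F) (q + 1), x = 0

/-- Sieve vanishing gives surjectivity on sections. -/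
lemma surjective_app_of_sieveAcyclic {S : ShortComplex (Sheaf J AddCommGrpCat.{u})}
    (hS : S.ShortExact) (hF : SieveAcyclic S.X₁) (X : C) :
    Function.Surjective (S.g.hom.app (op X)) := by
  intro s
  have hR : Presheaf.imageSieve S.g.hom s ∈ J X :=
    have : Sheaf.IsLocallySurjective S.g := (Sheaf.isLocallySurjective_iff_epi' _ _).2 hS.epi_g
    Presheaf.imageSieve_mem J S.g.hom s
  let R := Presheaf.imageSieve S.g.hom s
  let T := S.map (inclBot J)
  have := hS.mono_f
  have : Mono T.f := inferInstanceAs (Mono ((inclBot J).map S.f))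
  have hT : T.Exact := ShortComplex.exact_of_f_is_kernel _
    (KernelFork.mapIsLimit _ hS.fIsKernel (inclBot J))
  let ŝ : yoneda.obj X ⟶ S.X₃.obj ⋙ forget AddCommGrpCat.{u} := yonedaEquiv.symm s
  let z : freeBot R.functor ⟶ T.X₃ :=
    (freeBotEquiv R.functor T.X₃).symm (R.functorInclusion ≫ ŝ)
  have hz : z ≫ cokernel.π T.g = 0 := by
    apply (freeBotEquiv R.functor _).injective
    refine Eq.trans ?_ ((congrArg (freeBotEquiv R.functor _) (zero_comp (X := freeBot R.functor)
      (f := cokernel.π T.g))))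
    rw [freeBotEquiv_comp, freeBotEquiv_comp, Equiv.apply_symm_apply]
    ext V ⟨h, hh⟩
    obtain ⟨w, hw⟩ := hh
    have key : ∀ y, (cokernel.π T.g).hom.app V (T.g.hom.app V y) = 0 := fun y => by
      rw [← ConcreteCategory.comp_apply, ← NatTrans.comp_app,
        show T.g.hom ≫ (cokernel.π T.g).hom = (T.g ≫ cokernel.π T.g).hom from rfl,
        cokernel.condition]
      rfl
    have h0 : ((freeBotEquiv R.functor T.X₃) 0).app V ⟨h, ⟨w, hw⟩⟩ = (0 : T.X₃.obj.obj V) := by
      change (((AddCommGrpCat.adj.whiskerRight Cᵒᵖ).comp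
        (sheafificationAdjunction ⊥ AddCommGrpCat.{u})).homEquiv R.functor T.X₃ 0).app V _ = _
      rw [Adjunction.homEquiv_unit]
      rfl
    change (cokernel.π T.g).hom.app V (S.X₃.obj.map h.op s) =
      (cokernel.π T.g).hom.app V (((freeBotEquiv R.functor T.X₃) 0).app V ⟨h, ⟨w, hw⟩⟩)
    rw [h0, map_zero, ← hw]
    exact key w
  obtain ⟨t, ht⟩ := exists_lift T hT z hz (hF X R hR 0)
  obtain ⟨g, hg, -⟩ := exists_extension S.X₂ hR (freeBotEquiv R.functor T.X₂ t)
  refine ⟨yonedaEquiv g, ?_⟩
  obtain ⟨g', -, huniq⟩ := exists_extension S.X₃ hR (R.functorInclusion ≫ ŝ)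
  have e : g ≫ Functor.whiskerRight S.g.hom (forget AddCommGrpCat.{u}) = ŝ := by
    refine (huniq _ ?_).trans (huniq _ rfl).symm
    change R.functorInclusion ≫ g ≫ _ = _
    rw [← Category.assoc, hg]
    exact (freeBotEquiv_comp t T.g).symm.trans
      ((congrArg _ ht).trans (Equiv.apply_symm_apply _ _))
  have := congrArg yonedaEquiv e
  rw [yonedaEquiv_comp, Equiv.apply_symm_apply] at this
  exact this

/-- Sieve vanishing implies acyclicity on objects. -/
theorem subsingleton_hu_of_sieveAcyclic (q : ℕ) : ∀ (F : Sheaf J AddCommGrpCat.{u}),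
    SieveAcyclic F → ∀ X : C, Subsingleton (CohSite.HU F (q + 1) X) := by
  induction q with
  | zero =>
    intro F hF X
    exact (subsingleton_hu_iff _ _ X).2 fun x => Acyclic.ext_one_eq_zero (embSES_shortExact F)
      (surjective_app_of_sieveAcyclic (embSES_shortExact F) hF X) x (Ext.eq_zero_of_injective _)
  | succ n ih =>
    intro F hF X
    have hs := surjective_app_of_sieveAcyclic (embSES_shortExact F) hF
    have hQ : SieveAcyclic (embSES F).X₃ := fun Y R hR q x => by
      have hT := shortExact_map_inclBot (embSES_shortExact F) hs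
      obtain ⟨t, rfl⟩ := Ext.covariant_sequence_exact₃ _ hT x rfl (hF Y R hR (q + 1) _)
      have : Injective (embSES F).X₂ := inferInstanceAs (Injective (Injective.under F))
      have : Injective ((embSES F).map (inclBot J)).X₂ :=
        inferInstanceAs (Injective ((inclBot J).obj (embSES F).X₂))
      rw [Ext.eq_zero_of_injective t, Ext.zero_comp]
      rfl
    refine (subsingleton_hu_iff _ _ X).2 fun x => ?_
    obtain ⟨y, rfl⟩ := exists_eq_comp_extClass F x
    rw [(subsingleton_hu_iff (embSES F).X₃ _ X).1 (ih _ hQ X) y, Ext.zero_comp]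
    rfl

/-- Acyclicity on objects implies sieve vanishing. -/
theorem ext_freeBot_eq_zero (q : ℕ) : ∀ (F : Sheaf J AddCommGrpCat.{u}),
    (∀ (X : C) (q : ℕ), Subsingleton (CohSite.HU F (q + 1) X)) →
    ∀ (X : C) (R : Sieve X), R ∈ J X →
      ∀ x : Ext (freeBot R.functor) ((inclBot J).obj F) (q + 1), x = 0 := by
  induction q with
  | zero =>
    intro F hF X R hR x
    have hs := fun U => Acyclic.surjective_app_of_subsingleton (embSES_shortExact F) (hF U 0)
    have hT := shortExact_map_inclBot (embSES_shortExact F) hs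
    have : Injective (embSES F).X₂ := inferInstanceAs (Injective (Injective.under F))
    have : Injective ((embSES F).map (inclBot J)).X₂ :=
      inferInstanceAs (Injective ((inclBot J).obj (embSES F).X₂))
    obtain ⟨y, rfl⟩ := Ext.covariant_sequence_exact₁ (n₀ := 0) _ hT x
      (Ext.eq_zero_of_injective _) (zero_add 1)
    obtain ⟨y, rfl⟩ := (Ext.mk₀_bijective _ _).2 y
    obtain ⟨g, hg, -⟩ := exists_extension (embSES F).X₃ hR (freeBotEquiv R.functor _ y)
    obtain ⟨t, ht⟩ := hs X (yonedaEquiv g)
    let t' : freeBot R.functor ⟶ ((embSES F).map (inclBot J)).X₂ :=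
      (freeBotEquiv R.functor _).symm (R.functorInclusion ≫ yonedaEquiv.symm t)
    have hy : t' ≫ ((embSES F).map (inclBot J)).g = y := by
      apply (freeBotEquiv R.functor _).injective
      refine (freeBotEquiv_comp _ _).trans ?_
      rw [Equiv.apply_symm_apply, ← hg, Category.assoc]
      congr 1
      apply yonedaEquiv.injective
      rw [yonedaEquiv_comp, Equiv.apply_symm_apply]
      exact ht
    rw [← hy, ← Ext.mk₀_comp_mk₀, Ext.comp_assoc (a₁₂ := 0) (a₂₃ := 1) _ _ _ (add_zero 0)
      (zero_add 1) (by omega), ShortComplex.ShortExact.comp_extClass, Ext.comp_zero]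
    rfl
  | succ n ih =>
    intro F hF X R hR x
    have hs := fun U => Acyclic.surjective_app_of_subsingleton (embSES_shortExact F) (hF U 0)
    have hT := shortExact_map_inclBot (embSES_shortExact F) hs
    have : Injective (embSES F).X₂ := inferInstanceAs (Injective (Injective.under F))
    have : Injective ((embSES F).map (inclBot J)).X₂ :=
      inferInstanceAs (Injective ((inclBot J).obj (embSES F).X₂))
    have hQ : ∀ (U : C) (q : ℕ), Subsingleton (CohSite.HU (embSES F).X₃ (q + 1) U) := fun U q => by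
      refine (subsingleton_hu_iff _ _ U).2 fun z => ?_
      obtain ⟨t, rfl⟩ := Ext.covariant_sequence_exact₃ _ (embSES_shortExact F) z rfl
        (((subsingleton_hu_iff _ _ U).1 (hF U (q + 1))) _)
      rw [Ext.eq_zero_of_injective t, Ext.zero_comp]
    obtain ⟨y, rfl⟩ := Ext.covariant_sequence_exact₁ _ hT x (Ext.eq_zero_of_injective _)
      (show n + 1 + 1 = n + 2 from rfl)
    rw [show y = 0 from ih _ hQ X R hR y, Ext.zero_comp]
    rfl

end Groth.Agent.Lib.SiteCoh.InclBot
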