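import Groth.Agent.Lib.SiteCoh.Pushforward
import Groth.Agent.Lib.SpecSeq.Composite
import Groth.Agent.Lib.SpecSeq.HomExt

/-!
# The Leray spectral sequence of a morphism of sites, in sections over an object
-/

universe u

open CategoryTheory Limits Opposite Abelian

namespace Groth.Agent.Lib.SiteCoh.Leray

open Basic SpecSeq

variable {C D : Type u} [SmallCategory C] [SmallCategory D]
  {J : GrothendieckTopology C} {K : GrothendieckTopology D} (u : D ⥤ C) [u.IsContinuous K J]

/-- Sections of a direct image. -/
noncomputable def pushHomIso (V : D) :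
    CohSite.push J K u ⋙ HomExt.homFunctor (CohCx.freeSheaf K V) ≅
      HomExt.homFunctor (CohCx.freeSheaf J (u.obj V)) :=
  NatIso.ofComponents
    (fun F => AddEquiv.toAddCommGrpIso
      ((homEquiv V ((CohSite.push J K u).obj F)).trans (homEquiv (u.obj V) F).symm))
    (fun {F G} φ => by
      ext f
      apply (homEquiv (u.obj V) G).injective
      change homEquiv (u.obj V) G ((homEquiv (u.obj V) G).symm
          (homEquiv V ((CohSite.push J K u).obj G) (f ≫ (CohSite.push J K u).map φ))) =
        homEquiv (u.obj V) G ((homEquiv (u.obj V) F).symm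
          (homEquiv V ((CohSite.push J K u).obj F) f) ≫ φ)
      rw [AddEquiv.apply_symm_apply, homEquiv_comp, homEquiv_comp, AddEquiv.apply_symm_apply]
      rfl)

end Groth.Agent.Lib.SiteCoh.Leray
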