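import Groth.Agent.Lib.SiteCoh.NerveRes
import Groth.Agent.Lib.SiteCoh.HomAcyclic
import Groth.Agent.Lib.SiteCoh.FreeSheaf

/-!
# The Cech complex of a morphism of sheaves of sets as `Hom` out of the free nerve
-/

universe u

open CategoryTheory Limits Opposite Simplicial Abelian

namespace Groth.Agent.Lib.SiteCoh.NerveCx

open HomAcyclic FreeSheaf

variable {C : Type u} [SmallCategory C] {J : GrothendieckTopology C}

variable {K' K : Sheaf J (Type u)} (f : K' ⟶ K)

/-- The free augmented simplicial sheaf on the nerve. -/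
noncomputable abbrev freeNerve : SimplicialObject.Augmented (Sheaf J AddCommGrpCat.{u}) :=
  ((SimplicialObject.Augmented.whiskering _ _).obj
    (Sheaf.composeAndSheafify J AddCommGrpCat.free.{u})).obj (Arrow.mk f).augmentedCechNerve

/-- The free chain complex of the nerve. -/
noncomputable abbrev nerveP : ChainComplex (Sheaf J AddCommGrpCat.{u}) ℕ :=
  (SimplicialObject.Augmented.drop ⋙ AlgebraicTopology.alternatingFaceMapComplex _).obj (freeNerve f)

/-- Its augmentation to the free sheaf on the target. -/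
noncomputable abbrev nerveε : (nerveP f).X 0 ⟶ (freeSh J).obj K :=
  ((AlgebraicTopology.AlternatingFaceMapComplex.ε (C := Sheaf J AddCommGrpCat.{u})).app
    (freeNerve f)).f 0

lemma isResolution [Epi f] : IsResolution (nerveP f) (nerveε f) :=
  have := NerveRes.quasiIso_nerve f
  isResolution_of_quasiIso
    ((AlgebraicTopology.AlternatingFaceMapComplex.ε (C := Sheaf J AddCommGrpCat.{u})).app (freeNerve f))

variable {f} (F : Sheaf J AddCommGrpCat.{u})

lemma d_apply (n : ℕ) (x : (freeSh J).obj ((Arrow.mk f).cechNerve _⦋n⦌) ⟶ F) :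
    (CohCx.cechNerveCx F f).d n (n + 1) x = (nerveP f).d (n + 1) n ≫ x := by
  let G : CosimplicialObject AddCommGrpCat.{u} := (Arrow.mk f).cechNerve.rightOp ⋙ CohCx.HK0Functor J F
  have h1 : (CohCx.cechNerveCx F f).d n (n + 1) =
      ∑ i : Fin (n + 2), (-1 : ℤ) ^ (i : ℕ) • CosimplicialObject.δ G i := by
    exact CochainComplex.of_d (fun n => G.obj ⦋n⦌) (AlgebraicTopology.AlternatingCofaceMapComplex.objD G)
      n
  have h2 : (nerveP f).d (n + 1) n =
      ∑ i : Fin (n + 2), (-1 : ℤ) ^ (i : ℕ) • (freeNerve f).left.δ i :=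
    AlgebraicTopology.AlternatingFaceMapComplex.obj_d_eq _ n
  refine (ConcreteCategory.congr_hom h1 x).trans
    (Eq.trans ?_ (congrArg (fun t => t ≫ x) h2).symm)
  refine ((congrArg (fun t : _ →+ _ => t x) (map_sum (AddCommGrpCat.homAddEquiv
      (M := G.obj ⦋n⦌) (N := G.obj ⦋n + 1⦌)) _ _)).trans (AddMonoidHom.finsetSum_apply _ _ x)).trans ?_
  refine Eq.trans ?_ (Preadditive.sum_comp _ _ _).symm
  refine Finset.sum_congr rfl fun i _ => ?_
  refine Eq.trans ?_ (Preadditive.zsmul_comp _ _ _).symm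
  rfl

lemma isZero_homology_iff (q : ℕ) :
    IsZero ((CohCx.cechNerveCx F f).homology (q + 1)) ↔ ExactHom (nerveP f) F q := by
  rw [← HomologicalComplex.exactAt_iff_isZero_homology,
    HomologicalComplex.exactAt_iff' _ q (q + 1) (q + 2) (by simp) (by simp),
    ShortComplex.ab_exact_iff]
  constructor
  · intro h x hx
    obtain ⟨y, hy⟩ := h x ((d_apply F (q + 1) x).trans hx)
    exact ⟨y, (d_apply F q y).symm.trans hy⟩
  · intro h x hx
    obtain ⟨y, hy⟩ := h x ((d_apply F (q + 1) x).symm.trans hx)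
    exact ⟨y, (d_apply F q y).trans hy⟩

end Groth.Agent.Lib.SiteCoh.NerveCx
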