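import Groth.Agent.Lib.SiteCoh.InclBot
import Groth.Agent.Lib.SiteCoh.CohPresheaf
import Groth.Agent.Lib.SiteCoh.FreeSheaf
import Groth.Agent.Lib.SpecSeq.Composite

/-!
# From presheaf cohomology to sheaf cohomology
-/

universe u

open CategoryTheory Limits Opposite Abelian

namespace Groth.Agent.Lib.SiteCoh.PresheafSS

open InclBot FreeSheaf SpecSeq

variable {C : Type u} [SmallCategory C] {J : GrothendieckTopology C}

/-- Sheafifying the free presheaf on `R` gives the free sheaf on the sheaf associated to `R`. -/
noncomputable def freeBotSheafifyIso (R : Cᵒᵖ ⥤ Type u) :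
    (sheafToPresheaf (⊥ : GrothendieckTopology C) AddCommGrpCat.{u} ⋙
      presheafToSheaf J AddCommGrpCat.{u}).obj (freeBot R) ≅
      (freeSh J).obj ((presheafToSheaf J (Type u)).obj R) :=
  (presheafToSheaf J AddCommGrpCat.{u}).mapIso
      (isoSheafify (⊥ : GrothendieckTopology C) (Presheaf.isSheaf_bot _)).symm ≪≫
    ((presheafToSheafCompComposeAndSheafifyIso J AddCommGrpCat.free.{u}).app R).symm

/-- Presheaf `Hom` out of a free presheaf, restricted to sheaves. -/
noncomputable def inclHomIso (R : Cᵒᵖ ⥤ Type u) :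
    inclBot J ⋙ HomExt.homFunctor (freeBot R) ≅
      HomExt.homFunctor ((freeSh J).obj ((presheafToSheaf J (Type u)).obj R)) :=
  (NatIso.ofComponents (fun F => AddEquiv.toAddCommGrpIso ((adj J).homAddEquiv (freeBot R) F).symm)
      (fun {F G} φ => by
        ext f
        exact (adj J).homEquiv_naturality_right_symm f φ) :
    inclBot J ⋙ HomExt.homFunctor (freeBot R) ≅
      HomExt.homFunctor ((sheafToPresheaf (⊥ : GrothendieckTopology C) AddCommGrpCat.{u} ⋙
        presheafToSheaf J AddCommGrpCat.{u}).obj (freeBot R))) ≪≫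
    preadditiveCoyoneda.mapIso (freeBotSheafifyIso R).symm.op

/-- `Rq` of the inclusion into presheaves is the cohomology presheaf. -/
noncomputable def rightDerivedInclIso (M : Sheaf J AddCommGrpCat.{u}) (q : ℕ) :
    ((inclBot J).rightDerived q).obj M ≅ ⟨M.cohomologyPresheaf q, Presheaf.isSheaf_bot _⟩ :=
  haveI : (sheafToPresheaf (⊥ : GrothendieckTopology C) AddCommGrpCat.{u}).IsEquivalence :=
    (sheafBotEquivalence AddCommGrpCat.{u}).isEquivalence_functor
  (injectiveResolution M).isoRightDerivedObj (inclBot J) q ≪≫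
    (sheafToPresheaf (⊥ : GrothendieckTopology C) AddCommGrpCat.{u}).preimageIso
      (X := (((inclBot J).mapHomologicalComplex _).obj (injectiveResolution M).cocomplex).homology q)
      (Y := ⟨M.cohomologyPresheaf q, Presheaf.isSheaf_bot _⟩)
      ((((((inclBot J).mapHomologicalComplex _).obj (injectiveResolution M).cocomplex).sc q).mapHomologyIso
          (sheafToPresheaf (⊥ : GrothendieckTopology C) AddCommGrpCat.{u})).symm ≪≫
        CohPresheaf.homologyIso (injectiveResolution M) q)

end Groth.Agent.Lib.SiteCoh.PresheafSS
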