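import Mathlib.Algebra.Category.Grp.Limits
import Mathlib.Algebra.Category.Grp.EpiMono
import Mathlib.CategoryTheory.Limits.Shapes.ConcreteCategory

/-!
# Products of surjections of abelian groups
-/

universe u

open CategoryTheory Limits

namespace Groth.Agent.Lib.SiteCoh.Products

lemma pi_map_surjective {ι : Type u} {A B : ι → AddCommGrpCat.{u}} (f : ∀ i, A i ⟶ B i)
    (hf : ∀ i, Function.Surjective (f i)) : Function.Surjective (Limits.Pi.map f) := by
  intro b
  choose a ha using fun i => hf i (Pi.π B i b)
  refine ⟨(Concrete.productEquiv A).symm a, Concrete.limit_ext _ _ _ fun ⟨i⟩ => ?_⟩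
  change Pi.π B i (Limits.Pi.map f _) = Pi.π B i b
  rw [← ConcreteCategory.comp_apply, Pi.map_π, ConcreteCategory.comp_apply,
    Concrete.productEquiv_symm_apply_π, ha]

end Groth.Agent.Lib.SiteCoh.Products
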