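import Groth.Prelude.Def_CohCx
import Groth.Agent.Lib.SiteCoh.OverForget
import Groth.Agent.Lib.SiteCoh.Basic
import Groth.Agent.Lib.DerivedAdj.Exact
import Mathlib.Algebra.Homology.DerivedCategory.ExactFunctor
import Mathlib.CategoryTheory.Localization.Adjunction
import Mathlib.Topology.Sheaves.Over

/-!
# Restriction to an open subspace has an exact left adjoint, also on derived categories
-/

set_option autoImplicit false

universe w w' v v' u u'

open CategoryTheory CategoryTheory.Limits TopologicalSpace Opposite

namespace Groth.Agent.Lib.SiteCoh.RestrOpenAdj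

section General

variable {A : Type u} [Category.{v} A] [Abelian A] [HasDerivedCategory.{w} A]
  {B : Type u'} [Category.{v'} B] [Abelian B] [HasDerivedCategory.{w'} B]
  {L : A ⥤ B} {R : B ⥤ A} (adj : L ⊣ R) [L.Additive] [R.Additive]
  [PreservesFiniteLimits L] [PreservesFiniteColimits L]
  [PreservesFiniteLimits R] [PreservesFiniteColimits R]

/-- An adjunction of exact functors on derived categories. -/
noncomputable def derivedAdj : L.mapDerivedCategory ⊣ R.mapDerivedCategory :=
  letI : CatCommSq (L.mapHomologicalComplex (ComplexShape.up ℤ)) DerivedCategory.Q DerivedCategory.Q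
      L.mapDerivedCategory := ⟨L.mapDerivedCategoryFactors.symm⟩
  letI : CatCommSq (R.mapHomologicalComplex (ComplexShape.up ℤ)) DerivedCategory.Q DerivedCategory.Q
      R.mapDerivedCategory := ⟨R.mapDerivedCategoryFactors.symm⟩
  (DerivedAdj.Exact.adjCx adj).localization DerivedCategory.Q
    (HomologicalComplex.quasiIso A (ComplexShape.up ℤ)) DerivedCategory.Q
    (HomologicalComplex.quasiIso B (ComplexShape.up ℤ)) L.mapDerivedCategory R.mapDerivedCategory

end General

variable {X : TopCat.{u}} (U : Opens X)

/-- Extension by zero from an open subspace. -/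
noncomputable def extZero : CohTop.Ab (TopCat.of U) ⥤ CohTop.Ab X :=
  (U.sheafEquivOver (A := AddCommGrpCat.{u})).inverse ⋙
    (Over.forget U).sheafPullback AddCommGrpCat.{u} ((Opens.grothendieckTopology X).over U)
      (Opens.grothendieckTopology X)

/-- Extension by zero is left adjoint to restriction. -/
noncomputable def adj : extZero U ⊣ CohTop.restrFunctor U :=
  ((U.sheafEquivOver (A := AddCommGrpCat.{u})).symm.toAdjunction.comp
    ((Over.forget U).sheafAdjunctionContinuous AddCommGrpCat.{u} ((Opens.grothendieckTopology X).over U)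
      (Opens.grothendieckTopology X))).ofNatIsoRight
    (U.overPullbackSheafEquivOver (A := AddCommGrpCat.{u}))

instance preservesFiniteLimits_extZero : PreservesFiniteLimits (extZero U) :=
  comp_preservesFiniteLimits _ _

instance preservesFiniteColimits_extZero : PreservesFiniteColimits (extZero U) :=
  have : PreservesColimitsOfSize.{0, 0} (extZero U) := (adj U).leftAdjoint_preservesColimits
  PreservesColimitsOfSize.preservesFiniteColimits _

instance additive_extZero : (extZero U).Additive := (adj U).left_adjoint_additive

open Basic in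
/-- Extension by zero of the free sheaf on the whole of `U`. -/
noncomputable def extZeroFreeIso :
    (extZero U).obj (CohCx.freeSheaf (Opens.grothendieckTopology (TopCat.of U)) ⊤) ≅
      CohCx.freeSheaf (Opens.grothendieckTopology X) (U.isOpenEmbedding.functor.obj ⊤) :=
  (Coyoneda.fullyFaithful.preimageIso (NatIso.ofComponents
    (fun F => (((adj U).homEquiv _ F).trans
      ((homEquiv' (⊤ : Opens (TopCat.of U)) _).trans
        (homEquiv' (U.isOpenEmbedding.functor.obj ⊤) F).symm)).toIso)
    (fun {F G} φ => by
      ext f
      change (homEquiv (U.isOpenEmbedding.functor.obj ⊤) G).symm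
          ((homEquiv (⊤ : Opens (TopCat.of U)) _) ((adj U).homEquiv _ G (f ≫ φ))) =
        (homEquiv (U.isOpenEmbedding.functor.obj ⊤) F).symm
          ((homEquiv (⊤ : Opens (TopCat.of U)) _) ((adj U).homEquiv _ F f)) ≫ φ
      rw [Adjunction.homEquiv_naturality_right, homEquiv_comp]
      exact (homEquiv_symm_comp _ φ).symm))).unop.symm

variable [HasDerivedCategory.{u} (CohTop.Ab X)] [HasDerivedCategory.{u} (CohTop.Ab (TopCat.of U))]
  [PreservesFiniteLimits (CohTop.restrFunctor U)] [PreservesFiniteColimits (CohTop.restrFunctor U)]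

/-- Cohomology over an open is cohomology of the restriction. -/
theorem nonempty_hdu_restr (K : DerivedCategory (CohTop.Ab X)) (p : ℤ) :
    Nonempty (CohCx.HDU K p U ≃+
      CohCx.HDU ((CohTop.restrFunctor U).mapDerivedCategory.obj K) p ⊤) := by
  let adjD := derivedAdj (adj U)
  haveI : (extZero U).mapDerivedCategory.Additive := inferInstance
  let e₁ : (extZero U).mapDerivedCategory.obj ((DerivedCategory.singleFunctor _ 0).obj
      (CohCx.freeSheaf (Opens.grothendieckTopology (TopCat.of U)) ⊤)) ≅
      (DerivedCategory.singleFunctor _ 0).obj (CohCx.freeSheaf (Opens.grothendieckTopology X) U) :=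
    ((extZero U).mapDerivedCategorySingleFunctor 0).app _ ≪≫
      (DerivedCategory.singleFunctor _ 0).mapIso
        (extZeroFreeIso U ≪≫ eqToIso (congrArg (CohCx.freeSheaf (Opens.grothendieckTopology X))
          U.isOpenEmbedding_obj_top))
  let e₂ := ((CohTop.restrFunctor U).mapDerivedCategory.commShiftIso p).app K
  let pre : CohCx.HDU K p U ≃+ ((extZero U).mapDerivedCategory.obj ((DerivedCategory.singleFunctor _ 0).obj
      (CohCx.freeSheaf (Opens.grothendieckTopology (TopCat.of U)) ⊤)) ⟶ K⟦p⟧) :=
    { toFun := fun φ => e₁.hom ≫ φ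
      invFun := fun φ => e₁.inv ≫ φ
      left_inv := fun φ => e₁.inv_hom_id_assoc φ
      right_inv := fun φ => e₁.hom_inv_id_assoc φ
      map_add' := fun φ φ' => Preadditive.comp_add _ _ _ _ _ _ }
  exact ⟨(pre.trans (adjD.homAddEquiv _ _)).trans
    { toFun := fun φ => φ ≫ e₂.hom
      invFun := fun φ => φ ≫ e₂.inv
      left_inv := fun φ => (Category.assoc _ _ _).trans ((congrArg _ e₂.hom_inv_id).trans (Category.comp_id _))
      right_inv := fun φ => (Category.assoc _ _ _).trans ((congrArg _ e₂.inv_hom_id).trans (Category.comp_id _))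
      map_add' := fun φ φ' => Preadditive.add_comp _ _ _ _ _ _ }⟩

end Groth.Agent.Lib.SiteCoh.RestrOpenAdj
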