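import Groth.Agent.Lib.SiteCoh.FreeSheaf
import Mathlib.CategoryTheory.Sites.LocallyBijective
import Mathlib.CategoryTheory.Sites.Sieves

/-!
# A covering sieve and the object it covers have the same associated sheaf
-/

universe u

open CategoryTheory Limits Opposite Abelian

namespace Groth.Agent.Lib.SiteCoh.SieveSh

open FreeSheaf

variable {C : Type u} [SmallCategory C] {J : GrothendieckTopology C} {X : C} {R : Sieve X}

lemma isLocallySurjective_functorInclusion (hR : R ∈ J X) :
    Presheaf.IsLocallySurjective J R.functorInclusion := ⟨fun {W} h => by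
  refine J.superset_covering ?_ (J.pullback_stable (show W ⟶ X from h) hR)
  intro V g hg
  exact ⟨⟨g ≫ (show W ⟶ X from h), hg⟩, rfl⟩⟩

/-- A covering sieve has the same associated sheaf as the object it covers. -/
noncomputable def sheafifyIso (hR : R ∈ J X) :
    (presheafToSheaf J (Type u)).obj R.functor ≅ repSh J X :=
  haveI : IsIso ((presheafToSheaf J (Type u)).map R.functorInclusion) := by
    have h1 : J.W R.functorInclusion := by
      rw [GrothendieckTopology.W_iff_isLocallyBijective]
      have : Mono R.functorInclusion := inferInstance
      refine ⟨Presheaf.isLocallyInjective_of_injective J _ fun W a b h => Subtype.ext h,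
        isLocallySurjective_functorInclusion hR⟩
    rwa [GrothendieckTopology.W_iff] at h1
  asIso ((presheafToSheaf J (Type u)).map R.functorInclusion)

/-- Cohomology with respect to a covering sieve is cohomology over the object. -/
noncomputable def hkSieveIso (hR : R ∈ J X) (F : Sheaf J AddCommGrpCat.{u}) (n : ℕ) :
    AddCommGrpCat.of (CohCx.HK ((presheafToSheaf J (Type u)).obj R.functor) F n) ≅
      AddCommGrpCat.of (CohSite.HU F n X) :=
  ((extFunctor n).mapIso ((freeSh J).mapIso (sheafifyIso hR)).op).symm.app F ≪≫
    AddEquiv.toAddCommGrpIso (hkRepEquiv F X n)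

end Groth.Agent.Lib.SiteCoh.SieveSh
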